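import Mathlib

/-!
Pushing up a dihedral group: `H / Q` dihedral, `P` a Sylow 2-subgroup of `H` and `y` normalising `P`
with no non-trivial `y`-invariant normal subgroup of `H` inside `P`.
-/

set_option autoImplicit false
set_option linter.style.haveILetI false
set_option linter.unusedSectionVars false

namespace CfsgLib.DihedralEdge

open Subgroup
open scoped commutatorElement

variable {G : Type*} [Group G]

/-- Conjugate of a subgroup. -/
def cj (g : G) (L : Subgroup G) : Subgroup G := L.comap (MulAut.conj g⁻¹).toMonoidHom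

theorem mem_cj {g x : G} {L : Subgroup G} : x ∈ cj g L ↔ g⁻¹ * x * g ∈ L := by
  simp [cj, mul_assoc]

theorem conj_mem_cj {g a : G} {L : Subgroup G} : g * a * g⁻¹ ∈ cj g L ↔ a ∈ L := by
  rw [mem_cj]; simp [mul_assoc]

theorem cj_mul (a b : G) (L : Subgroup G) : cj (a * b) L = cj a (cj b L) := by
  ext x; simp [mem_cj, mul_assoc]

theorem cj_mono (g : G) {L M : Subgroup G} (h : L ≤ M) : cj g L ≤ cj g M := comap_mono h

theorem cj_one (L : Subgroup G) : cj 1 L = L := by ext x; simp [mem_cj]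

theorem cj_eq_of_mem {L : Subgroup G} {g : G} (hg : g ∈ normalizer (L : Set G)) : cj g L = L := by
  ext x
  rw [mem_cj]
  have := mem_normalizer_iff.1 (inv_mem hg) x
  rw [inv_inv] at this
  exact this.symm

theorem mem_normalizer_of_cj {L : Subgroup G} {g : G} (h : cj g L = L) :
    g ∈ normalizer (L : Set G) := by
  refine mem_normalizer_iff.2 fun x => ?_
  conv_rhs => rw [← h]
  exact conj_mem_cj.symm

theorem cj_sup (g : G) (L M : Subgroup G) : cj g (L ⊔ M) = cj g L ⊔ cj g M := by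
  refine le_antisymm ?_ (sup_le (cj_mono g le_sup_left) (cj_mono g le_sup_right))
  have h : L ⊔ M ≤ cj g⁻¹ (cj g L ⊔ cj g M) := by
    have e : ∀ K : Subgroup G, cj g⁻¹ (cj g K) = K := fun K => by
      rw [← cj_mul, inv_mul_cancel, cj_one]
    exact sup_le ((e L).ge.trans (cj_mono _ le_sup_left))
      ((e M).ge.trans (cj_mono _ le_sup_right))
  refine (cj_mono g h).trans ?_
  rw [← cj_mul, mul_inv_cancel, cj_one]

theorem card_eq_two_mul [Finite G] {L M : Subgroup G} (hLM : L ≤ M) (ha : ∃ a ∈ M, a ∉ L)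
    (hm : ∀ a ∈ M, ∀ b ∈ M, a ∉ L → b ∉ L → a * b ∈ L) : Nat.card M = 2 * Nat.card L := by
  obtain ⟨a, haM, haL⟩ := ha
  have h2 : (L.subgroupOf M).index = 2 := by
    refine index_eq_two_iff.2 ⟨⟨a, haM⟩, fun b => ?_⟩
    simp only [mem_subgroupOf, Subgroup.coe_mul]
    by_cases hb : (b : G) ∈ L
    · exact Or.inr ⟨hb, fun h => haL (by simpa using mul_mem (inv_mem hb) h)⟩
    · exact Or.inl ⟨hm _ b.2 _ haM hb haL, hb⟩
  rw [← card_mul_index (L.subgroupOf M), h2, Nat.card_congr (subgroupOfEquivOfLe hLM).toEquiv,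
    mul_comm]

/-- The data. -/
structure Data (G : Type*) [Group G] where
  H : Subgroup G
  P : Subgroup G
  Q : Subgroup G
  y : G
  hQP : Q ≤ P
  hPH : P ≤ H
  hQn : H ≤ normalizer (Q : Set G)
  hP2 : IsPGroup 2 P
  hQne : Q ≠ ⊥
  hidx : Q.relIndex P = 2
  two : ∀ T : Subgroup G, T ≤ H → IsPGroup 2 T → ∀ a ∈ T, ∀ b ∈ T, a ∉ Q → b ∉ Q → a * b ∈ Q
  sylow : ∀ x ∈ H, IsPGroup 2 (zpowers x) → ∃ h ∈ H, x ∈ cj h P
  exists_gen : ∃ h ∈ H, P ⊔ cj h P = H
  hyP : cj y P = P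
  hy2 : ∃ p ∈ P, ∃ c ∈ centralizer (P : Set G), y * y = p * c
  core : ∀ L : Subgroup G, L ≤ P → H ≤ normalizer (L : Set G) → cj y L = L → L = ⊥

namespace Data

variable (D : Data G)

/-- Generating conjugators. -/
def Gen (h : G) : Prop := h ∈ D.H ∧ D.P ⊔ cj h D.P = D.H

/-- `ε` is `y` or its inverse. -/
def Step (e : G) : Prop := e = D.y ∨ e = D.y⁻¹

theorem Step.inv {e : G} (he : D.Step e) : D.Step e⁻¹ := by
  rcases he with rfl | rfl
  · exact Or.inr rfl
  · exact Or.inl (inv_inv _)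

/-- The balls of the coset graph. -/
def Ball : ℕ → Set G
  | 0 => (D.H : Set G)
  | k + 1 => {g | g ∈ Ball k ∨ ∃ g1 ∈ Ball k, ∃ e, D.Step e ∧ ∃ h ∈ D.H, g = g1 * e * h}

theorem Ball.mono {k m : ℕ} (h : k ≤ m) {g : G} (hg : g ∈ D.Ball k) : g ∈ D.Ball m := by
  induction h with
  | refl => exact hg
  | step _ ih => exact Or.inl ih

theorem Ball.mul_right {k : ℕ} {g h : G} (hg : g ∈ D.Ball k) (hh : h ∈ D.H) : g * h ∈ D.Ball k := by
  induction k generalizing g with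
  | zero => exact D.H.mul_mem hg hh
  | succ k ih =>
    rcases hg with hg | ⟨g1, hg1, e, he, h', hh', rfl⟩
    · exact Or.inl (ih hg)
    · exact Or.inr ⟨g1, hg1, e, he, h' * h, mul_mem hh' hh, by simp [mul_assoc]⟩

theorem Ball.mul {k m : ℕ} {g w : G} (hg : g ∈ D.Ball k) (hw : w ∈ D.Ball m) :
    g * w ∈ D.Ball (k + m) := by
  induction m generalizing w with
  | zero => exact Ball.mul_right D hg hw
  | succ m ih =>
    rcases hw with hw | ⟨w1, hw1, e, he, h, hh, rfl⟩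
    · exact Or.inl (ih hw)
    · exact Or.inr ⟨g * w1, ih hw1, e, he, h, hh, by simp [mul_assoc]⟩

theorem Ball.mul_left {k : ℕ} {g h : G} (hh : h ∈ D.H) (hg : g ∈ D.Ball k) : h * g ∈ D.Ball k := by
  simpa using Ball.mul D (show h ∈ D.Ball 0 from hh) hg

theorem Ball.step {e : G} (he : D.Step e) : e ∈ D.Ball 1 :=
  Or.inr ⟨1, D.H.one_mem, e, he, 1, D.H.one_mem, by simp⟩

theorem Ball.inv {k : ℕ} {g : G} (hg : g ∈ D.Ball k) : g⁻¹ ∈ D.Ball k := by
  induction k generalizing g with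
  | zero => exact D.H.inv_mem hg
  | succ k ih =>
    rcases hg with hg | ⟨g1, hg1, e, he, h, hh, rfl⟩
    · exact Or.inl (ih hg)
    · rw [mul_inv_rev, mul_inv_rev, ← mul_assoc]
      rw [Nat.add_comm]
      exact Ball.mul D (Ball.mul_left D (inv_mem hh) (Ball.step D he.inv)) (ih hg1)

theorem exists_first {k : ℕ} {g : G} (hg : g ∈ D.Ball (k + 1)) (hg' : g ∉ D.Ball k) :
    ∃ h ∈ D.H, ∃ e, D.Step e ∧ ∃ w ∈ D.Ball k, g = h * (e * w) := by
  have hi := Ball.inv D hg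
  rcases hi with hi | ⟨g1, hg1, e, he, h, hh, heq⟩
  · exact absurd (by simpa using Ball.inv D hi) hg'
  · refine ⟨h⁻¹, inv_mem hh, e⁻¹, he.inv, g1⁻¹, Ball.inv D hg1, ?_⟩
    rw [← inv_inv g, heq]; simp [mul_assoc]

theorem cj_H_P {h : G} (hh : h ∈ D.H) : cj h D.P ≤ D.H := fun x hx => by
  have := D.hPH (mem_cj.1 hx)
  simpa [mul_assoc] using mul_mem (mul_mem hh this) (inv_mem hh)

theorem cj_Q {h : G} (hh : h ∈ D.H) : cj h D.Q = D.Q := cj_eq_of_mem (D.hQn hh)

theorem cj_H {h : G} (hh : h ∈ D.H) : cj h D.H = D.H := cj_eq_of_mem (D.H.le_normalizer hh)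

theorem mul_mem_Q {a b : G} (ha : a ∈ D.P) (hb : b ∈ D.P) (ha' : a ∉ D.Q) (hb' : b ∉ D.Q) :
    a * b ∈ D.Q := D.two D.P D.hPH D.hP2 a ha b hb ha' hb'

theorem exists_not_mem_Q : ∃ t ∈ D.P, t ∉ D.Q := by
  by_contra h
  push Not at h
  have := D.hidx
  rw [relIndex_eq_one.2 h] at this
  omega

theorem mem_H_of_gen {h : G} (hg : D.Gen h) {K : Subgroup G} (h1 : D.P ≤ K) (h2 : cj h D.P ≤ K) :
    D.H ≤ K := hg.2 ▸ sup_le h1 h2

theorem cj_P_step {e : G} (he : D.Step e) : cj e D.P = D.P := by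
  rcases he with rfl | rfl
  · exact D.hyP
  · conv_lhs => rw [← D.hyP]
    rw [← cj_mul, inv_mul_cancel, cj_one]

/-- A central subgroup of `P` inside `P` is fixed by `y²`. -/
theorem cj_sq {L : Subgroup G} (hL : L ≤ D.P) (hn : D.P ≤ normalizer (L : Set G)) :
    cj (D.y * D.y) L = L := by
  obtain ⟨p, hp, c, hc, e⟩ := D.hy2
  rw [e, cj_mul]
  have : cj c L = L := by
    ext x
    rw [mem_cj]
    constructor
    · intro hx
      have h2 := (mem_centralizer_iff.1 hc _ (hL hx)).symm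
      have h3 : x = c⁻¹ * x * c := by
        calc x = c * (c⁻¹ * x * c) * c⁻¹ := by group
          _ = c⁻¹ * x * c := by rw [h2, mul_inv_cancel_right]
      exact h3 ▸ hx
    · intro hx
      rwa [mul_assoc, mem_centralizer_iff.1 hc _ (hL hx), inv_mul_cancel_left]
  rw [this, cj_eq_of_mem (hn hp)]

theorem P_le_normalizer_Q : D.P ≤ normalizer (D.Q : Set G) := D.hPH.trans D.hQn

theorem cj_step_eq {L : Subgroup G} (hL : L ≤ D.P) (hn : D.P ≤ normalizer (L : Set G)) {e : G}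
    (he : D.Step e) : cj e L = cj D.y L := by
  rcases he with rfl | rfl
  · rfl
  · conv_lhs => rw [← D.cj_sq hL hn]
    rw [← cj_mul, inv_mul_cancel_left]

theorem cj_step_Q {e : G} (he : D.Step e) : cj e D.Q = cj D.y D.Q :=
  D.cj_step_eq D.hQP D.P_le_normalizer_Q he

theorem cj_yy_Q : cj D.y (cj D.y D.Q) = D.Q := by
  rw [← cj_mul, D.cj_sq D.hQP D.P_le_normalizer_Q]

theorem cj_y_Q_le : cj D.y D.Q ≤ D.P := (cj_mono D.y D.hQP).trans D.hyP.le

theorem P_le_of_Q {L : Subgroup G} (hQ : D.Q ≤ L) {t : G} (ht : t ∈ D.P) (htQ : t ∉ D.Q)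
    (htL : t ∈ L) : D.P ≤ L := fun p hp => by
  by_cases hpQ : p ∈ D.Q
  · exact hQ hpQ
  · simpa using mul_mem (hQ (D.mul_mem_Q hp ht hpQ htQ)) (inv_mem htL)

theorem Q_le_cj_P {h : G} (hh : h ∈ D.H) : D.Q ≤ cj h D.P :=
  (D.cj_Q hh).ge.trans (cj_mono h D.hQP)

theorem gen_twist {h t : G} (hg : D.Gen h) (ht : t ∈ D.P) (htQ : t ∉ D.Q) (hts : t * t ∈ D.Q) :
    D.Gen (h⁻¹ * t * h) := by
  have hsH : h⁻¹ * t * h ∈ D.H := mul_mem (mul_mem (inv_mem hg.1) (D.hPH ht)) hg.1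
  refine ⟨hsH, le_antisymm (sup_le D.hPH (D.cj_H_P hsH)) ?_⟩
  set K := cj h D.P ⊔ cj (t * h) D.P with hK
  have hQK : D.Q ≤ K := (D.Q_le_cj_P hg.1).trans le_sup_left
  have htt : cj (t * t * h) D.P = cj h D.P := by
    rw [cj_mul]
    exact cj_eq_of_mem ((cj h D.P).le_normalizer (D.Q_le_cj_P hg.1 hts))
  have htK : t ∈ normalizer (K : Set G) := by
    refine mem_normalizer_iff.2 fun x => ?_
    have hcj : cj t K = K := by
      rw [hK]
      have : (MulAut.conj t⁻¹).toMonoidHom = ((MulAut.conj t).symm : G ≃* G).toMonoidHom := by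
        ext u; simp [mul_assoc]
      rw [cj, this, ← map_equiv_eq_comap_symm', Subgroup.map_sup, map_equiv_eq_comap_symm',
        map_equiv_eq_comap_symm', ← this]
      show cj t (cj h D.P) ⊔ cj t (cj (t * h) D.P) = _
      rw [← cj_mul, ← cj_mul, ← mul_assoc, htt, sup_comm]
    conv_rhs => rw [← hcj]
    exact conj_mem_cj.symm
  have hHK : D.H ≤ normalizer (K : Set G) := D.mem_H_of_gen hg
    (D.P_le_of_Q (hQK.trans K.le_normalizer) ht htQ htK) (le_sup_left.trans K.le_normalizer)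
  have hPK : D.P ≤ K := by
    intro p hp
    have h1 : h * p * h⁻¹ ∈ K := le_sup_left (b := cj (t * h) D.P) (conj_mem_cj.2 hp)
    exact (mem_normalizer_iff.1 (hHK hg.1) p).2 h1
  have hHle : D.H ≤ K := D.mem_H_of_gen hg hPK le_sup_left
  -- transport to the edge at one
  intro x hx
  have hx' : h * x * h⁻¹ ∈ K := hHle (mul_mem (mul_mem hg.1 hx) (inv_mem hg.1))
  have hle : K ≤ cj h (D.P ⊔ cj (h⁻¹ * t * h) D.P) := by
    refine sup_le (cj_mono h le_sup_left) ?_
    rw [show cj (t * h) D.P = cj h (cj (h⁻¹ * t * h) D.P) by rw [← cj_mul]; simp [mul_assoc]]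
    exact cj_mono h le_sup_right
  simpa [mem_cj, mul_assoc] using hle hx'

end Data

end CfsgLib.DihedralEdge
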