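import Cfsg.Agent.Solvable.Basics
import Cfsg.Agent.Solvable.Gaschutz
import Cfsg.Agent.Transfer.Basic
import Cfsg.Prelude.Def_Balance
import Cfsg.Agent.S1012

/-!
Groups modulo their odd core: the four group, `S₄` and `S₄ × 2`.
-/

set_option autoImplicit false
set_option linter.style.haveILetI false
set_option linter.unusedSectionVars false

namespace CfsgLib.DihedralEdge

open Subgroup
open scoped commutatorElement

variable {K : Type*} [Group K] [Finite K]

theorem klein_sq : ∀ p : Multiplicative (ZMod 2) × Multiplicative (ZMod 2), p ^ 2 = 1 := by decide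

theorem perm_three_moves : ∀ σ : Equiv.Perm (Fin 3), σ * σ * σ = 1 → σ ≠ 1 → ∀ i, σ i ≠ i := by
  decide

theorem complement_spec {C : Subgroup K} {Q : Subgroup K} [C.Normal] (hQC : Q ≤ C)
    (hQ : IsPGroup 2 Q) (hcen : ∀ q ∈ Q, ∀ c ∈ C, q * c = c * q)
    (hodd : ¬ 2 ∣ Q.relIndex C) :
    ∃ N : Subgroup K, N.Normal ∧ Odd (Nat.card N) ∧ N ≤ C ∧
      Nat.card C = Nat.card Q * Nat.card N := by
  haveI : Fact (Nat.Prime 2) := ⟨Nat.prime_two⟩
  have hP2 : IsPGroup 2 (Q.subgroupOf C) := IsPGroup.of_equiv hQ (subgroupOfEquivOfLe hQC).symm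
  let S : Sylow 2 C := hP2.toSylow hodd
  have hS : (S : Subgroup C) = Q.subgroupOf C := rfl
  obtain ⟨S', N, hN, hcomp⟩ := CfsgLib.TransferBasic.hasNormalPComplement_of_le_centralizer S
    (fun c _ => mem_centralizer_iff.2 fun q hq => Subtype.ext (hcen _ hq _ c.2))
  have hcard : Nat.card (S' : Subgroup C) = Nat.card Q := by
    rw [S'.card_eq_multiplicity, ← S.card_eq_multiplicity, hS]
    exact Nat.card_congr (subgroupOfEquivOfLe hQC).toEquiv
  have hmul : Nat.card N * Nat.card Q = Nat.card C := hcard ▸ hcomp.card_mul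
  have hNidx : N.index = Nat.card Q := by
    rw [← hcard]; exact hcomp.symm.index_eq_card
  have hNodd : Odd (Nat.card N) := by
    have h1 : N.index * Nat.card N = Nat.card C := by rw [mul_comm]; exact N.card_mul_index
    have h2 := (Q.subgroupOf C).card_mul_index
    rw [Nat.card_congr (subgroupOfEquivOfLe hQC).toEquiv] at h2
    have : Nat.card N = (Q.subgroupOf C).index :=
      Nat.eq_of_mul_eq_mul_left Nat.card_pos (show Nat.card Q * Nat.card N = _ by
        rw [mul_comm, hmul, ← h2])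
    rw [this]; exact Nat.odd_iff.2 (Nat.two_dvd_ne_zero.1 hodd)
  refine ⟨N.map C.subtype, ⟨fun x hx g => ?_⟩, ?_, map_subtype_le N, ?_⟩
  · obtain ⟨c, hc, rfl⟩ := hx
    set c' : C := ⟨g * c * g⁻¹, (inferInstance : C.Normal).conj_mem _ c.2 g⟩
    refine ⟨c', ?_, rfl⟩
    have hpow : c' ^ Nat.card N = 1 := by
      refine Subtype.ext ?_
      have h1 : (c : K) ^ Nat.card N = 1 :=
        congrArg Subtype.val (congrArg Subtype.val (pow_card_eq_one' (x := (⟨c, hc⟩ : N))))
      show (g * (c : K) * g⁻¹) ^ Nat.card N = 1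
      rw [conj_pow, h1, mul_one, mul_inv_cancel]
    haveI := hN
    show c' ∈ N
    rw [← QuotientGroup.eq_one_iff (N := N)]
    have h2 : (QuotientGroup.mk c' : C ⧸ N) ^ Nat.card N = 1 := by
      rw [← QuotientGroup.mk_pow, hpow]; rfl
    have h3 : (QuotientGroup.mk c' : C ⧸ N) ^ Nat.card Q = 1 := by
      rw [← hNidx]; exact pow_card_eq_one'
    have hcop : (Nat.card N).Coprime (Nat.card Q) := by
      obtain ⟨k, hk⟩ := IsPGroup.iff_card.1 hQ
      rw [hk]; exact (Nat.coprime_two_right.2 hNodd).pow_right k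
    have := pow_gcd_eq_one.2 ⟨h2, h3⟩
    rwa [hcop.gcd_eq_one, pow_one] at this
  · rw [card_map_of_injective C.subtype_injective]; exact hNodd
  · rw [card_map_of_injective C.subtype_injective, ← hmul, mul_comm]

theorem oddCore_eq {C Q N : Subgroup K} [Q.Normal] (hQ : IsPGroup 2 Q)
    (hC : centralizer (Q : Set K) ≤ C) (hN : N.Normal) (hNodd : Odd (Nat.card N))
    (hcard : Nat.card C = Nat.card Q * Nat.card N) : Cfsg.oddCore K = N := by
  haveI : Fact (Nat.Prime 2) := ⟨Nat.prime_two⟩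
  have hle : N ≤ Cfsg.oddCore K := Solvable.le_pPrimeCore 2 hN (Nat.coprime_two_right.2 hNodd)
  have hOn : (Cfsg.oddCore K).Normal := (Solvable.pPrimeCore_spec 2).1
  have hodd : Odd (Nat.card (Cfsg.oddCore K)) := Nat.coprime_two_right.mp (Solvable.coprime_card_pPrimeCore 2)
  have hOC : Cfsg.oddCore K ≤ C := fun o ho => hC (mem_centralizer_iff.2 fun q hq => by
    have hdis : Disjoint Q (Cfsg.oddCore K) := by
      rw [disjoint_iff]
      obtain ⟨k, hk⟩ := IsPGroup.iff_card.1 hQ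
      exact inf_eq_bot_of_coprime (hk ▸ ((Nat.coprime_two_left.2 hodd).pow_left k))
    exact commute_of_normal_of_disjoint Q _ inferInstance hOn hdis q o hq ho)
  refine (Solvable.eq_of_le_of_card_le hle ?_).symm
  have hd : Nat.card (Cfsg.oddCore K) ∣ Nat.card Q * Nat.card N := hcard ▸ card_dvd_of_le hOC
  obtain ⟨k, hk⟩ := IsPGroup.iff_card.1 hQ
  refine Nat.le_of_dvd Nat.card_pos (Nat.Coprime.dvd_of_dvd_mul_left ?_ hd)
  rw [hk]; exact (Nat.coprime_two_right.2 hodd).pow_right k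

/-- Quotient of the Klein kind. -/
theorem iso_klein {P : Sylow 2 K} (hP4 : Nat.card P = 4) (hPe : ∀ p ∈ (P : Subgroup K), p * p = 1)
    {q z : K} (hq : q ∈ (P : Subgroup K)) (hz : z ∈ (P : Subgroup K)) (hq1 : q ≠ 1) (hz1 : z ≠ 1)
    (hqz : q ≠ z) (hqc : ∀ g : K, g * q = q * g) :
    Nonempty (K ⧸ Cfsg.oddCore K ≃* Multiplicative (ZMod 2) × Multiplicative (ZMod 2)) := by
  haveI : Fact (Nat.Prime 2) := ⟨Nat.prime_two⟩
  have hPc : ∀ a b : P, a * b = b * a := fun a b => by
    have h : ∀ p : P, p * p = 1 := fun p => Subtype.ext (hPe p p.2)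
    calc a * b = a * ((a * b) * (a * b)) * b := by rw [h, mul_one]
      _ = (a * a) * (b * a) * (b * b) := by group
      _ = _ := by rw [h, h, one_mul, mul_one]
  have hlist : ∀ p ∈ (P : Subgroup K), p = 1 ∨ p = q ∨ p = z ∨ p = q * z := by
    intro p hp
    haveI := Fintype.ofFinite P
    classical
    by_contra hne
    push Not at hne
    have hqz1 : q * z ≠ 1 := fun h => hqz (by
      rw [← inv_eq_of_mul_eq_one_right (hPe q hq)]; exact inv_eq_of_mul_eq_one_right h)
    let f : Fin 5 → P := ![1, ⟨q, hq⟩, ⟨z, hz⟩, ⟨q * z, mul_mem hq hz⟩, ⟨p, hp⟩]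
    have hf : Function.Injective f := by
      intro i j hij
      have h2 := congrArg Subtype.val hij
      fin_cases i <;> fin_cases j <;>
        simp [f, hq1, hq1.symm, hz1, hz1.symm, hqz, hqz.symm, hqz1, hqz1.symm, hne.1, hne.1.symm,
          hne.2.1, hne.2.1.symm, hne.2.2.1, hne.2.2.1.symm, hne.2.2.2, hne.2.2.2.symm] at h2 ⊢
    have := Nat.card_le_card_of_injective f hf
    rw [Nat.card_fin] at this
    exact absurd (this.trans_eq hP4) (by norm_num)
  obtain ⟨P', N, hN, hcomp⟩ := CfsgLib.TransferBasic.hasNormalPComplement_of_abelian (P := P)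
    ⟨⟨hPc⟩⟩ (fun g hg hcop => by
      have hzc : g * z * g⁻¹ = z ∨ g * z * g⁻¹ = q * z := by
        rcases hlist _ ((mem_normalizer_iff.1 hg z).1 hz) with h | h | h | h
        · exact absurd (by simpa using h : z = 1) hz1
        · exfalso; apply hqz
          have : g * z * g⁻¹ = g * q * g⁻¹ := by rw [h, hqc g, mul_inv_cancel_right]
          exact (mul_left_cancel (mul_right_cancel this)).symm
        · exact Or.inl h
        · exact Or.inr h
      have hsq : g * g ∈ centralizer ((P : Subgroup K) : Set K) := by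
        have h2 : g * g * z = z * (g * g) := by
          rcases hzc with h | h
          · have : g * z = z * g := mul_inv_eq_iff_eq_mul.1 h
            rw [mul_assoc, this, ← mul_assoc, this, mul_assoc]
          · have h1 : g * z = q * z * g := mul_inv_eq_iff_eq_mul.1 h
            calc g * g * z = g * (g * z) := mul_assoc _ _ _
              _ = (g * q) * z * g := by rw [h1]; group
              _ = q * (g * z) * g := by rw [hqc g]; group
              _ = (q * q) * z * (g * g) := by rw [h1]; group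
              _ = z * (g * g) := by rw [hPe q hq, one_mul]
        refine mem_centralizer_iff.2 fun p hp => ?_
        rcases hlist p hp with rfl | rfl | rfl | rfl
        · simp
        · exact (hqc _).symm
        · exact h2.symm
        · rw [mul_assoc, ← h2, ← mul_assoc, ← hqc, mul_assoc]
      obtain ⟨k, hk⟩ := exists_pow_eq_self_of_coprime hcop.symm
      rw [← hk, pow_two]
      exact pow_mem hsq k)
  have hN4 : N.index = 4 := by
    rw [hcomp.symm.index_eq_card, P'.card_eq_multiplicity, ← P.card_eq_multiplicity, hP4]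
  have hNodd : Odd (Nat.card N) := by
    have h1 := P'.not_dvd_index
    have h2 : (P' : Subgroup K).index = Nat.card N := hcomp.index_eq_card
    rw [h2] at h1
    exact Nat.odd_iff.2 (Nat.two_dvd_ne_zero.1 h1)
  have hO : Cfsg.oddCore K = N := by
    have hle : N ≤ Cfsg.oddCore K := Solvable.le_pPrimeCore 2 hN (Nat.coprime_two_right.2 hNodd)
    refine (Solvable.eq_of_le_of_card_le hle (Nat.le_of_dvd Nat.card_pos ?_)).symm
    have hodd : Odd (Nat.card (Cfsg.oddCore K)) := Nat.coprime_two_right.mp (Solvable.coprime_card_pPrimeCore 2)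
    have hd := card_subgroup_dvd_card (Cfsg.oddCore K)
    rw [← N.card_mul_index, hN4] at hd
    exact (Nat.Coprime.pow_right 2 (Nat.coprime_two_right.2 hodd)).dvd_of_dvd_mul_right hd
  haveI := hN
  have hK4 : Nat.card (K ⧸ N) = 4 := hN4
  let f : (P : Subgroup K) →* K ⧸ N := (QuotientGroup.mk' N).comp (P : Subgroup K).subtype
  have hfi : Function.Injective f := (injective_iff_map_eq_one f).2 fun p hp => by
    have hpN : (p : K) ∈ N := (QuotientGroup.eq_one_iff (p : K)).1 hp
    have h1 : orderOf (p : K) ∣ 2 := orderOf_dvd_of_pow_eq_one (by rw [pow_two, hPe p p.2])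
    have h2 : orderOf (p : K) ∣ Nat.card N := (Subgroup.orderOf_coe (⟨(p : K), hpN⟩ : N)) ▸ orderOf_dvd_natCard _
    have h3 := Nat.eq_one_of_dvd_coprimes (Nat.coprime_two_left.2 hNodd) h1 h2
    exact Subtype.ext (orderOf_eq_one_iff.1 h3)
  let e := MulEquiv.ofBijective f
    ((Nat.bijective_iff_injective_and_card f).2 ⟨hfi, hP4.trans hK4.symm⟩)
  haveI : IsKleinFour (P : Subgroup K) := by
    refine ⟨hP4, ?_⟩
    haveI : Nontrivial (P : Subgroup K) := ⟨⟨⟨q, hq⟩, 1, fun h => hq1 (congrArg Subtype.val h)⟩⟩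
    exact (Monoid.exponent_eq_prime_iff Nat.prime_two).2 fun p hp => orderOf_eq_prime
      (by rw [pow_two]; exact Subtype.ext (hPe p p.2)) hp
  haveI : IsKleinFour (Multiplicative (ZMod 2) × Multiplicative (ZMod 2)) := by
    refine ⟨by simp, ?_⟩
    exact (Monoid.exponent_eq_prime_iff Nat.prime_two).2 fun p hp => orderOf_eq_prime
      (klein_sq p) hp
  obtain ⟨e'⟩ := IsKleinFour.nonempty_mulEquiv (G₁ := (P : Subgroup K))
    (G₂ := Multiplicative (ZMod 2) × Multiplicative (ZMod 2))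
  exact ⟨(QuotientGroup.quotientMulEquivOfEq hO).trans (e.symm.trans e')⟩

theorem perm_three_cases : ∀ σ : Equiv.Perm (Fin 3), σ * σ = 1 ∨ σ * σ * σ = 1 := by decide

/-- Quotient of the kind `S₄` or `S₄ × 2`. -/
theorem iso_sym_four {P : Sylow 2 K} {Q W X : Subgroup K} [Q.Normal] [W.Normal]
    (hQP : Q ≤ (P : Subgroup K)) (hQe : ∀ q ∈ Q, q * q = 1)
    (hPQ : Nat.card P = 2 * Nat.card Q) (hW4 : Nat.card W = 4)
    (hXc : ∀ x ∈ X, ∀ g : K, g * x = x * g) (hX2 : Nat.card X ≤ 2) (hWX : W ⊓ X = ⊥)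
    (hQeq : W ⊔ X = Q) {t h v v' : K} (htP : t ∈ (P : Subgroup K)) (htQ : t ∉ Q) (ht2 : t * t = 1)
    (hv1 : v ≠ 1) (hv'W : v' ∈ W) (hv'1 : v' ≠ 1)
    (h2 : t * v' * t⁻¹ = v' * v) (h3 : h * t * h⁻¹ * v' * (h * t * h⁻¹)⁻¹ = v') :
    Nonempty (K ⧸ Cfsg.oddCore K ≃* Equiv.Perm (Fin 4)) ∨
      Nonempty (K ⧸ Cfsg.oddCore K ≃* Equiv.Perm (Fin 4) × Multiplicative (ZMod 2)) := by
  haveI : Fact (Nat.Prime 2) := ⟨Nat.prime_two⟩
  have hQ2 : IsPGroup 2 Q := P.2.to_le hQP
  haveI : X.Normal := ⟨fun x hx g => by rwa [hXc x hx g, mul_inv_cancel_right]⟩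
  -- the permutation action on the involutions of `W`
  let Ω := {w : W // w ≠ 1}
  letI : MulAction K Ω :=
    { smul := fun g w => ⟨⟨g * (w.1 : K) * g⁻¹, (inferInstance : W.Normal).conj_mem _ w.1.2 g⟩,
        fun e => w.2 (Subtype.ext (conj_eq_one_iff.1 (congrArg Subtype.val e)))⟩
      one_smul := fun w => Subtype.ext (Subtype.ext (show (1 : K) * w.1 * 1⁻¹ = w.1 by group))
      mul_smul := fun a b w => Subtype.ext (Subtype.ext
        (show a * b * (w.1 : K) * (a * b)⁻¹ = a * (b * w.1 * b⁻¹) * a⁻¹ by group)) }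
  let φ : K →* Equiv.Perm Ω := MulAction.toPermHom K Ω
  have hΩ : Nat.card Ω = 3 := by
    classical
    haveI := Fintype.ofFinite W
    rw [Nat.card_eq_fintype_card] at hW4
    rw [Nat.card_eq_fintype_card, Fintype.card_subtype_compl, Fintype.card_subtype_eq, hW4]
  set C := centralizer (Q : Set K) with hCdef
  have hker : φ.ker = C := by
    ext g
    rw [MonoidHom.mem_ker]
    constructor
    · intro hg
      refine mem_centralizer_iff.2 fun q hq => ?_
      have hle : Q ≤ centralizer {g} := hQeq ▸ sup_le (fun w hw => ?_)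
        (fun x hx => mem_centralizer_singleton_iff.2 (hXc x hx g).symm)
      · exact mem_centralizer_singleton_iff.1 (hle hq)
      · by_cases hw1 : w = 1
        · rw [hw1]; exact one_mem _
        have := congrArg (fun σ : Equiv.Perm Ω => ((σ ⟨⟨w, hw⟩, fun e => hw1 (congrArg Subtype.val e)⟩).1 : K)) hg
        exact mem_centralizer_singleton_iff.2 (mul_inv_eq_iff_eq_mul.1 (show g * w * g⁻¹ = w from this)).symm
    · intro hg
      refine Equiv.ext fun w => Subtype.ext (Subtype.ext ?_)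
      show g * (w.1 : K) * g⁻¹ = w.1
      have hwQ : (w.1 : K) ∈ Q := hQeq ▸ mem_sup_left w.1.2
      rw [← mem_centralizer_iff.1 hg _ hwQ, mul_inv_cancel_right]
  haveI hCn : C.Normal := hker ▸ φ.normal_ker
  have hvv : v' * v ≠ v' := fun e => hv1 (by simpa using e)
  have htC : t ∉ C := fun ht => hvv (by
    have := mem_centralizer_iff.1 ht v' (hQeq ▸ mem_sup_left hv'W)
    rw [← h2, ← this, mul_inv_cancel_right])
  have h6 : C.index ∣ 6 := by
    rw [← hker, index_ker]
    refine (card_subgroup_dvd_card _).trans ?_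
    rw [Nat.card_perm, hΩ]; decide
  have hC6 : C.index = 6 := by
    have hne1 : C.index ≠ 1 := fun e => htC (index_eq_one.1 e ▸ mem_top t)
    have hne3 : C.index ≠ 3 := fun e => htC ((QuotientGroup.eq_one_iff t).1 (by
      have e1 : (QuotientGroup.mk t : K ⧸ C) ^ 2 = 1 := by
        rw [← QuotientGroup.mk_pow, pow_two, ht2]; rfl
      have e2 : (QuotientGroup.mk t : K ⧸ C) ^ 3 = 1 := e ▸ pow_card_eq_one'
      have := pow_gcd_eq_one.2 ⟨e1, e2⟩
      rwa [show Nat.gcd 2 3 = 1 from rfl, pow_one] at this))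
    have hne2 : C.index ≠ 2 := fun e => by
      have hmem : t⁻¹ * (h * t * h⁻¹) ∈ C := by
        rw [mul_mem_iff_of_index_two e, C.inv_mem_iff]
        exact ⟨fun hh => absurd hh htC, fun hh => absurd (by
          simpa [mul_assoc] using hCn.conj_mem _ hh h⁻¹) htC⟩
      have := mem_centralizer_iff.1 hmem v' (hQeq ▸ mem_sup_left hv'W)
      refine hvv ?_
      set s := h * t * h⁻¹
      calc v' * v = t * v' * t⁻¹ := h2.symm
        _ = t * (v' * (t⁻¹ * s)) * s⁻¹ := by group
        _ = s * v' * s⁻¹ := by rw [this]; group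
        _ = v' := h3
    have := Nat.le_of_dvd (by norm_num) h6
    generalize C.index = n at *
    interval_cases n <;> omega
  have hQC : Q ≤ C := fun a ha => mem_centralizer_iff.2 fun b hb => by
    calc b * a = b * ((b * a) * (b * a)) * a := by rw [hQe _ (mul_mem hb ha), mul_one]
      _ = (b * b) * (a * b) * (a * a) := by group
      _ = a * b := by rw [hQe b hb, hQe a ha, one_mul, mul_one]
  have hK6 : Nat.card K = 6 * Nat.card C := by rw [← hC6, mul_comm]; exact C.card_mul_index.symm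
  have hodd : ¬ 2 ∣ Q.relIndex C := by
    intro hd
    have e1 := relIndex_mul_relIndex ⊥ Q C bot_le hQC
    rw [relIndex_bot_left, relIndex_bot_left] at e1
    obtain ⟨c, hc⟩ := hd
    have e2 := (P : Subgroup K).card_mul_index
    rw [hK6, ← e1, hc, hPQ] at e2
    have : (P : Subgroup K).index = 2 * (3 * c) :=
      Nat.eq_of_mul_eq_mul_left (show 0 < 2 * Nat.card Q by have := Nat.card_pos (α := Q); omega)
        (e2.trans (by ring))
    exact P.not_dvd_index ⟨_, this⟩
  obtain ⟨N, hN, hNodd, hNC, hCcard⟩ := complement_spec hQC hQ2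
    (fun q hq c hc => mem_centralizer_iff.1 hc q hq) hodd
  have hO : Cfsg.oddCore K = N := oddCore_eq hQ2 le_rfl hN hNodd hCcard
  haveI := hN
  let f := QuotientGroup.mk' N
  have hfP : ∀ p ∈ (P : Subgroup K), f p = 1 → p = 1 := fun p hp hp1 => by
    have hpN : p ∈ N := (QuotientGroup.eq_one_iff p).1 hp1
    obtain ⟨k, hk⟩ := IsPGroup.iff_orderOf.1 P.2 ⟨p, hp⟩
    rw [orderOf_mk] at hk
    have h2 : orderOf p ∣ Nat.card N :=
      (Subgroup.orderOf_coe (⟨p, hpN⟩ : N)) ▸ orderOf_dvd_natCard _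
    exact orderOf_eq_one_iff.1 (Nat.eq_one_of_dvd_coprimes
      ((Nat.coprime_two_left.2 hNodd).pow_left k) (hk ▸ dvd_rfl) h2)
  have hmapcard : ∀ L : Subgroup K, L ≤ (P : Subgroup K) → Nat.card (L.map f) = Nat.card L :=
    fun L hL => by
      refine (Nat.card_congr (Equiv.ofBijective (fun x : L => (⟨f x, mem_map_of_mem f x.2⟩ : L.map f))
        ⟨fun a b hab => ?_, fun ⟨y, x, hx, hxy⟩ => ⟨⟨x, hx⟩, Subtype.ext hxy⟩⟩)).symm
      have h4 : f ((a : K)⁻¹ * b) = 1 := by
        rw [map_mul, map_inv, show f a = f b from congrArg Subtype.val hab, inv_mul_cancel]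
      exact Subtype.ext (inv_mul_eq_one.1 (hfP _ (mul_mem (inv_mem (hL a.2)) (hL b.2)) h4))
  have hQbar : Nat.card (K ⧸ N) = 6 * Nat.card Q := by
    have e := N.card_mul_index
    rw [hK6, hCcard] at e
    exact Nat.eq_of_mul_eq_mul_left (Nat.card_pos (α := N)) (e.trans (by ring))
  have hXQ : X ≤ Q := hQeq ▸ le_sup_right
  have hWQ : W ≤ Q := hQeq ▸ le_sup_left
  have hQ4 : Nat.card Q = 4 * Nat.card X := by
    have := Solvable.card_sup_of_disjoint (A := X) (K := W) le_normalizer_of_normal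
      (by rw [inf_comm]; exact hWX)
    rw [sup_comm, hQeq, hW4] at this
    rw [this, mul_comm]
  -- a complement of the centre
  set Xb := X.map f with hXb
  haveI hXbn : Xb.Normal := ⟨fun x hx g => by
    obtain ⟨x0, hx0, rfl⟩ := hx
    obtain ⟨g0, rfl⟩ := QuotientGroup.mk'_surjective N g
    refine ⟨x0, hx0, ?_⟩
    rw [← map_mul, hXc x0 hx0 g0, map_mul, ← map_inv, ← map_mul, ← map_mul, mul_inv_cancel_right]⟩
  have hXbc : ∀ x ∈ Xb, ∀ g : K ⧸ N, g * x = x * g := by
    rintro _ ⟨x0, hx0, rfl⟩ g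
    obtain ⟨g0, rfl⟩ := QuotientGroup.mk'_surjective N g
    rw [← map_mul, hXc x0 hx0 g0, map_mul]
  haveI : IsMulCommutative Xb := ⟨⟨fun a b => Subtype.ext (hXbc b b.2 a)⟩⟩
  set A := W ⊔ zpowers t with hA
  have hAP : A ≤ (P : Subgroup K) := sup_le (hWQ.trans hQP) (zpowers_le.2 htP)
  have hAX : A ⊓ X = ⊥ := by
    refine eq_bot_iff.2 fun a ⟨ha, hax⟩ => ?_
    obtain ⟨_, ⟨i, rfl⟩, w, hw, rfl⟩ := (Solvable.mem_sup_of_le_normalizer
      (le_normalizer_of_normal : zpowers t ≤ normalizer (W : Set K))).1 (show a ∈ zpowers t ⊔ W by rw [sup_comm]; exact ha)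
    rcases Int.even_or_odd' i with ⟨m, rfl | rfl⟩
    · simp only [zpow_mul, zpow_two, ht2, one_zpow, one_mul] at hax ⊢
      rw [← hWX]; exact ⟨hw, hax⟩
    · exfalso
      simp only [zpow_add, zpow_mul, zpow_two, ht2, one_zpow, one_mul, zpow_one] at hax
      exact htQ (by simpa using mul_mem (hXQ hax) (inv_mem (hWQ hw)))
  have hXA : X ⊔ A = (P : Subgroup K) := by
    refine Solvable.eq_of_le_of_card_le (sup_le (hXQ.trans hQP) hAP) ?_
    have hlt : Q < X ⊔ A := lt_of_le_of_ne (hQeq ▸ sup_le (le_sup_left.trans le_sup_right) le_sup_left)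
      fun e => htQ (e ▸ mem_sup_right (mem_sup_right (mem_zpowers t)))
    have h4 := Solvable.card_lt_of_lt hlt
    obtain ⟨k, hk⟩ := IsPGroup.iff_card.1 (P.2.to_le (sup_le (hXQ.trans hQP) hAP))
    obtain ⟨j, hj⟩ := IsPGroup.iff_card.1 hQ2
    rw [hk, hj] at h4
    rw [hPQ, hk, hj, ← pow_succ']
    exact Nat.pow_le_pow_right two_pos
      ((Nat.pow_lt_pow_iff_right (by norm_num : 1 < 2)).1 h4)
  have hAXb : A.map f ⊓ Xb = ⊥ := by
    refine eq_bot_iff.2 fun y ⟨⟨a, ha, hay⟩, x, hx, hxy⟩ => ?_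
    have hax : a = x := inv_mul_eq_one.1 (hfP (a⁻¹ * x) (mul_mem (inv_mem (hAP ha)) ((hXQ.trans hQP) hx))
      (by rw [map_mul, map_inv, hay, hxy, inv_mul_cancel]))
    have : a ∈ A ⊓ X := ⟨ha, hax ▸ hx⟩
    rw [hAX, mem_bot] at this
    rw [mem_bot, ← hay, this, map_one]
  obtain ⟨L, hL⟩ := CfsgLib.Gaschutz.exists_complement (K := Xb)
    (U := (P : Subgroup K).map f) (map_mono (hXQ.trans hQP))
    (by
      obtain ⟨k, hk⟩ := IsPGroup.iff_card.1 ((P.2.to_le (hXQ.trans hQP)).map f)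
      rw [hk]
      refine Nat.Coprime.pow_left k (Nat.prime_two.coprime_iff_not_dvd.2 fun hd => ?_)
      exact P.not_dvd_index (hd.trans (index_map_dvd _ (QuotientGroup.mk'_surjective N))))
    (A.map f) (map_mono hAP) hAXb (by rw [← Subgroup.map_sup, hXA])
  have hXcard : Nat.card Xb = Nat.card X := hmapcard X (hXQ.trans hQP)
  have hL24 : Nat.card L = 24 := by
    have e := hL.card_mul
    rw [hQbar, hXcard, hQ4] at e
    exact Nat.eq_of_mul_eq_mul_left (Nat.card_pos (α := X)) (e.trans (by ring))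
  have hLX : Xb ⊓ L = ⊥ := disjoint_iff.1 hL.disjoint
  have hCbar : C.map f = Q.map f := by
    refine le_antisymm ?_ (map_mono hQC)
    have hsup : C = N ⊔ Q := by
      refine (Solvable.eq_of_le_of_card_le (sup_le hNC hQC) ?_).symm
      have hNQ : N ⊓ Q = ⊥ := eq_bot_iff.2 fun u ⟨hu, hu'⟩ =>
        mem_bot.2 (hfP u (hQP hu') ((QuotientGroup.eq_one_iff u).2 hu))
      rw [Solvable.card_sup_of_disjoint le_normalizer_of_normal hNQ, hCcard, mul_comm]
    rw [hsup, Subgroup.map_sup, QuotientGroup.map_mk'_self, bot_sup_eq]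
  have h6' : ∀ l : L, orderOf l ≠ 6 := by
    intro l hl
    rw [← orderOf_coe] at hl
    obtain ⟨g, hg⟩ := QuotientGroup.mk'_surjective N (l : K ⧸ N)
    have hmem : ∀ u ∈ C, ∀ j : ℕ, f u = (l : K ⧸ N) ^ j → (l : K ⧸ N) ^ (2 * j) = 1 := by
      intro u hu j huj
      obtain ⟨q, hq, hqu⟩ : f u ∈ Q.map f := hCbar ▸ mem_map_of_mem f hu
      rw [mul_comm, pow_mul, ← huj, ← hqu, pow_two, ← map_mul, hQe q hq, map_one]
    have hdvd : ∀ j, (l : K ⧸ N) ^ j = 1 → 6 ∣ j := fun j hj => hl ▸ orderOf_dvd_of_pow_eq_one hj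
    haveI := Fintype.ofFinite Ω
    obtain ⟨eΩ⟩ : Nonempty (Ω ≃ Fin 3) :=
      ⟨Fintype.equivFinOfCardEq (Nat.card_eq_fintype_card.symm.trans hΩ)⟩
    set σ : Equiv.Perm (Fin 3) := eΩ.permCongrHom (φ g) with hσ
    have hker' : ∀ u, φ u = 1 → u ∈ C := fun u hu => hker ▸ hu
    have hσpow : ∀ u, eΩ.permCongrHom (φ u) = 1 → φ u = 1 := fun u hu => by
      rwa [MulEquiv.map_eq_one_iff] at hu
    rcases perm_three_cases σ with hs | hs
    · have hu : g * g ∈ C := hker' _ (hσpow _ (by rw [map_mul, map_mul]; exact hs))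
      have := hdvd _ (hmem _ hu 2 (by rw [map_mul, hg, pow_two]))
      omega
    · by_cases hσ1 : σ = 1
      · have := hdvd _ (hmem g (hker' _ (hσpow _ hσ1)) 1 (by rw [hg, pow_one]))
        omega
      have hu : g * g * g ∈ C := hker' _ (hσpow _ (by rw [map_mul, map_mul, map_mul, map_mul]; exact hs))
      obtain ⟨q, hq, hqu⟩ : f (g * g * g) ∈ Q.map f := hCbar ▸ mem_map_of_mem f hu
      -- `g` centralises `q`
      have hgq : g * q * g⁻¹ = q := by
        have h4 : f (q⁻¹ * (g * q * g⁻¹)) = 1 := by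
          rw [map_mul, map_mul, map_mul, map_inv, map_inv, hqu, map_mul, map_mul]; group
        exact (inv_mul_eq_one.1 (hfP _ (hQP (mul_mem (inv_mem hq)
          ((inferInstance : Q.Normal).conj_mem q hq g))) h4)).symm
      obtain ⟨w, hw, x, hx, rfl⟩ := (Solvable.mem_sup_of_le_normalizer
        (le_normalizer_of_normal : W ≤ normalizer (X : Set K))).1 (hQeq.symm ▸ hq)
      have hgw : g * w * g⁻¹ = w := by
        have e : g * (w * x) * g⁻¹ = g * w * g⁻¹ * x := by
          rw [show g * (w * x) * g⁻¹ = g * w * g⁻¹ * (g * x * g⁻¹) by group, hXc x hx g,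
            mul_inv_cancel_right]
        rw [e] at hgq
        exact mul_right_cancel hgq
      have hw1 : w = 1 := by
        by_contra hw1
        have hmove := perm_three_moves σ hs hσ1 (eΩ ⟨⟨w, hw⟩, fun e => hw1 (congrArg Subtype.val e)⟩)
        apply hmove
        rw [hσ, Equiv.permCongrHom_coe, Equiv.permCongr_apply, Equiv.symm_apply_apply]
        exact congrArg eΩ (Subtype.ext (Subtype.ext hgw))
      have hmemX : (l : K ⧸ N) ^ 3 ∈ Xb ⊓ L := by
        refine ⟨⟨x, hx, ?_⟩, pow_mem l.2 3⟩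
        rw [← one_mul x, ← hw1, hqu, map_mul, map_mul, hg, pow_succ, pow_two]
      rw [hLX, mem_bot] at hmemX
      have := hdvd 3 hmemX
      omega
  obtain ⟨eL⟩ := Cfsg.Agent.S1012.result hL24 h6'
  have hcomm : ∀ (l : L) (x : Xb), Commute (l : K ⧸ N) (x : K ⧸ N) := fun l x => hXbc x x.2 l
  have hbij : Function.Bijective (L.subtype.noncommCoprod Xb.subtype hcomm) := by
    refine (Nat.bijective_iff_injective_and_card _).2 ⟨?_, by
      rw [Nat.card_prod, mul_comm]; exact hL.card_mul⟩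
    refine (injective_iff_map_eq_one _).2 fun ⟨l, x⟩ hlx => ?_
    have hlx' : (l : K ⧸ N) * x = 1 := hlx
    have hl : (l : K ⧸ N) ∈ Xb ⊓ L := ⟨by
      rw [eq_inv_of_mul_eq_one_left hlx']; exact Xb.inv_mem x.2, l.2⟩
    rw [hLX, mem_bot] at hl
    rw [hl, one_mul] at hlx'
    exact Prod.ext (Subtype.ext hl) (Subtype.ext hlx')
  let eK := (MulEquiv.ofBijective _ hbij).symm
  have eO : K ⧸ Cfsg.oddCore K ≃* K ⧸ N := QuotientGroup.quotientMulEquivOfEq hO
  have hXpos := Nat.card_pos (α := X)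
  rcases (show Nat.card X = 1 ∨ Nat.card X = 2 by omega) with h1 | h1
  · left
    haveI : Subsingleton Xb := (Nat.card_eq_one_iff_unique.1 (hXcard.trans h1)).1
    haveI : Unique Xb := uniqueOfSubsingleton 1
    exact ⟨eO.trans (eK.trans (MulEquiv.prodUnique.trans eL))⟩
  · right
    exact ⟨eO.trans (eK.trans (MulEquiv.prodCongr eL (mulEquivOfPrimeCardEq (p := 2)
      (hXcard.trans h1) (by simp))))⟩

end CfsgLib.DihedralEdge
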