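import Cfsg.Agent.DihedralEdge.Main
import Cfsg.Agent.DihedralEdge.Local

/-!
The conclusion for the dihedral edge configuration.
-/

set_option autoImplicit false
set_option linter.style.haveILetI false
set_option linter.unusedSectionVars false

namespace CfsgLib.DihedralEdge.Data

open Subgroup
open scoped commutatorElement

variable {G : Type*} [Group G] [Finite G] (D : Data G)

theorem card_P : Nat.card D.P = 2 * Nat.card D.Q :=
  card_eq_two_mul D.hQP D.exists_not_mem_Q fun _ ha _ hb ha' hb' => D.mul_mem_Q ha hb ha' hb'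

/-- The small case. -/
theorem structure_small (h : ¬ D.Z ≤ D.Q) :
    Nat.card D.Q = 2 ∧ (∀ g ∈ D.H, ∀ q ∈ D.Q, g * q = q * g) ∧ ∀ p ∈ D.P, p * p = 1 := by
  obtain ⟨z, hz, hzQ⟩ := SetLike.not_le_iff_exists.1 h
  obtain ⟨k, hk⟩ := D.exists_gen
  have hk' : D.Gen k := ⟨hk.1, hk.2⟩
  set E := D.Q ⊓ cj D.y D.Q
  have hPn : D.P ≤ normalizer (E : Set G) := by
    refine (le_inf D.P_le_normalizer_Q fun p hp => mem_normalizer_of_cj ?_).trans
      (fun g hg => mem_normalizer_iff.2 fun u => and_congr (mem_normalizer_iff.1 hg.1 u) (mem_normalizer_iff.1 hg.2 u))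
    have hp' : D.y⁻¹ * p * D.y ∈ D.P := mem_cj.1 (D.hyP.symm ▸ hp)
    rw [← cj_mul, show p * D.y = D.y * (D.y⁻¹ * p * D.y) by group, cj_mul,
      cj_eq_of_mem (D.P_le_normalizer_Q hp')]
  have hHn : D.H ≤ normalizer (E : Set G) := by
    refine D.mem_H_of_gen hk' hPn fun x hx => ?_
    -- modulo `Q` the conjugate is generated by an element centralising `Q`
    set z' := k * z * k⁻¹ with hz'
    have hz'c : ∀ q ∈ D.Q, z' * q = q * z' := fun q hq => by
      have hq' : k⁻¹ * q * k ∈ D.P := D.hQP (mem_cj.1 ((D.cj_Q hk.1).ge hq))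
      calc z' * q = k * (z * (k⁻¹ * q * k)) * k⁻¹ := by rw [hz']; group
        _ = k * ((k⁻¹ * q * k) * z) * k⁻¹ := by rw [hz.2.2 _ hq']
        _ = q * z' := by rw [hz']; group
    have hz'N : z' ∈ normalizer (E : Set G) := mem_normalizer_iff.2 fun u => by
      constructor
      · intro hu
        rwa [hz'c u hu.1, mul_inv_cancel_right]
      · intro hu
        have hu' : u = z' * u * z'⁻¹ := by
          have := hz'c _ hu.1
          calc u = z'⁻¹ * ((z' * u * z'⁻¹) * z') := by group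
            _ = z'⁻¹ * (z' * (z' * u * z'⁻¹)) := by rw [this]
            _ = z' * u * z'⁻¹ := by group
        rwa [hu']
    have hx' := mem_cj.1 hx
    by_cases hxQ : k⁻¹ * x * k ∈ D.Q
    · exact hPn (D.hQP ((D.cj_Q hk.1).le (mem_cj.2 hxQ)))
    · have h2 := D.mul_mem_Q hx' hz.1 hxQ hzQ
      have h3 : x * z' ∈ D.Q := (D.cj_Q hk.1).le (mem_cj.2 (by
        rw [hz', show k⁻¹ * (x * (k * z * k⁻¹)) * k = k⁻¹ * x * k * z by group]; exact h2))
      have := mul_mem (hPn (D.hQP h3)) (inv_mem hz'N)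
      rwa [mul_inv_cancel_right] at this
  have hyy : cj D.y E = E := by
    ext u
    have h3 : u ∈ cj D.y (cj D.y D.Q) ↔ u ∈ D.Q := by rw [D.cj_yy_Q]
    rw [mem_cj, mem_cj] at h3
    rw [mem_cj, mem_inf, mem_inf, mem_cj, mem_cj]
    tauto
  have hE := D.core E (inf_le_left.trans D.hQP) hHn hyy
  have hkey : ∀ p ∈ D.Q, ∀ q ∈ D.Q, p ≠ 1 → q ≠ 1 → p * q = 1 := fun p hp q hq hp1 hq1 => by
    have hy : ∀ u ∈ D.Q, D.y⁻¹ * u * D.y ∈ D.P := fun u hu => mem_cj.1 (D.hyP.symm ▸ D.hQP hu)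
    have hne : ∀ u ∈ D.Q, u ≠ 1 → D.y⁻¹ * u * D.y ∉ D.Q := fun u hu hu1 hh => hu1 (by
      have : u ∈ E := ⟨hu, mem_cj.2 hh⟩
      rwa [hE, mem_bot] at this)
    have h2 := D.mul_mem_Q (hy p hp) (hy q hq) (hne p hp hp1) (hne q hq hq1)
    have : p * q ∈ E := ⟨mul_mem hp hq, mem_cj.2 (by simpa [mul_assoc] using h2)⟩
    rwa [hE, mem_bot] at this
  obtain ⟨q0, hq0, hq01⟩ := (bot_or_exists_ne_one D.Q).resolve_left D.hQne
  have hall : ∀ q ∈ D.Q, q = 1 ∨ q = q0 := fun q hq => by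
    by_cases hq1 : q = 1
    · exact Or.inl hq1
    right
    rw [eq_inv_of_mul_eq_one_left (hkey q hq q0 hq0 hq1 hq01),
      inv_eq_of_mul_eq_one_right (hkey q0 hq0 q0 hq0 hq01 hq01)]
  have hQ2 : Nat.card D.Q = 2 := by
    rw [card_eq_two_mul (L := ⊥) bot_le ⟨q0, hq0, by rwa [mem_bot]⟩ (fun a ha b hb ha' hb' => by
      rw [mem_bot] at ha' hb' ⊢; exact hkey a ha b hb ha' hb'), card_bot]
  refine ⟨hQ2, fun g hg q hq => ?_, fun p hp => ?_⟩
  · rcases hall q hq with rfl | rfl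
    · rw [one_mul, mul_one]
    · rcases hall (g * q * g⁻¹) ((mem_normalizer_iff.1 (D.hQn hg) q).1 hq) with h1 | h1
      · exact absurd (by simpa using h1 : q = 1) hq01
      · exact mul_inv_eq_iff_eq_mul.1 h1
  · have hsq : ∀ q ∈ D.Q, q * q = 1 := fun q hq => by
      by_cases hq1 : q = 1
      · rw [hq1, one_mul]
      · exact hkey q hq q hq hq1 hq1
    by_cases hpQ : p ∈ D.Q
    · exact hsq p hpQ
    have h2 := D.mul_mem_Q hp hz.1 hpQ hzQ
    calc p * p = p * p * (z * z) := by rw [hz.2.1, mul_one]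
      _ = p * (p * z) * z := by group
      _ = p * (z * p) * z := by rw [hz.2.2 p hp]
      _ = (p * z) * (p * z) := by group
      _ = 1 := hsq _ h2

/-- The conclusion. -/
theorem conclusion (S : Sylow 2 D.H) (hS : (S : Subgroup D.H) = D.P.subgroupOf D.H) :
    (Nat.card D.P = 4 ∨ Nat.card D.P = 8 ∨ Nat.card D.P = 16) ∧
    (Nonempty (↥D.H ⧸ Cfsg.oddCore ↥D.H ≃* Multiplicative (ZMod 2) × Multiplicative (ZMod 2)) ∨
     Nonempty (↥D.H ⧸ Cfsg.oddCore ↥D.H ≃* Equiv.Perm (Fin 4)) ∨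
     Nonempty (↥D.H ⧸ Cfsg.oddCore ↥D.H ≃* Equiv.Perm (Fin 4) × Multiplicative (ZMod 2))) := by
  have hScard : Nat.card S = Nat.card D.P :=
    (congrArg (fun L : Subgroup D.H => Nat.card L) hS).trans
      (Nat.card_congr (subgroupOfEquivOfLe D.hPH).toEquiv)
  have hmemS : ∀ p : D.H, p ∈ (S : Subgroup D.H) ↔ (p : G) ∈ D.P := fun p => by
    rw [hS, mem_subgroupOf]
  obtain ⟨t0, ht0P, ht0Q⟩ := D.exists_not_mem_Q
  by_cases hZQ : D.Z ≤ D.Q
  · obtain ⟨b, hb⟩ := D.exists_crit hZQ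
    obtain ⟨hQV, hQcard, hVX, t, htP, htQ, ht2⟩ := D.structure_of_crit hZQ hb
    refine ⟨by rw [D.card_P]; omega, Or.inr ?_⟩
    obtain ⟨hv, hv1, hvX, hall⟩ := D.v_spec hZQ hb
    obtain ⟨k, hk⟩ := D.exists_gen
    have hk' : D.Gen k := ⟨hk.1, hk.2⟩
    set v' := k * D.v * k⁻¹ with hv'
    have hv'V : v' ∈ D.V := D.conj_mem_V hZQ (D.Z_le_V hv) hk.1
    have hvnot : D.v ∉ cj k D.Z := fun h => hvX (by rw [← D.inf_eq_X hZQ hk']; exact ⟨hv, h⟩)
    have hv'Z : v' ∉ D.Z := fun h => by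
      have hx : v' ∈ D.X := by rw [← D.inf_eq_X hZQ hk']; exact ⟨h, conj_mem_cj.2 hv⟩
      have := D.X_conj hx (inv_mem hk.1)
      rw [hv', show k⁻¹ * (k * D.v * k⁻¹) * k⁻¹⁻¹ = D.v by group] at this
      exact hvX (this ▸ hx)
    have hv'1 : v' ≠ 1 := fun h => hv'Z (h ▸ one_mem _)
    have hv'v : v' ≠ D.v := fun h => hv'Z (h ▸ hv)
    have hv'2 : v' * v' = 1 := D.V_sq hZQ hv'V
    have hvv : D.v * D.v = 1 := hv.2.1
    have hcm : D.v * v' = v' * D.v := D.V_comm hZQ (D.Z_le_V hv) hv'V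
    -- the natural module
    let W : Subgroup G :=
      { carrier := {1, D.v, v', D.v * v'}
        one_mem' := Or.inl rfl
        mul_mem' := fun {a b} ha hb => by
          have c2 : D.v * v' * D.v = v' := by rw [hcm, mul_assoc, hvv, mul_one]
          have c3 : D.v * (D.v * v') = v' := by rw [← mul_assoc, hvv, one_mul]
          have c4 : v' * (D.v * v') = D.v := by rw [← mul_assoc, ← hcm, mul_assoc, hv'2, mul_one]
          have c5 : D.v * v' * v' = D.v := by rw [mul_assoc, hv'2, mul_one]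
          have c6 : D.v * v' * (D.v * v') = 1 := by rw [← mul_assoc, c2, hv'2]
          rcases ha with rfl | rfl | rfl | rfl <;> rcases hb with rfl | rfl | rfl | rfl <;>
            simp only [Set.mem_insert_iff, Set.mem_singleton_iff, one_mul, mul_one, hvv, hv'2, c2, c3,
              c4, c5, c6, ← hcm, eq_self_iff_true, true_or, or_true]
        inv_mem' := fun {a} ha => by
          rcases ha with rfl | rfl | rfl | rfl
          · simp
          · rw [inv_eq_of_mul_eq_one_right hvv]; simp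
          · rw [inv_eq_of_mul_eq_one_right hv'2]; simp
          · rw [mul_inv_rev, inv_eq_of_mul_eq_one_right hvv, inv_eq_of_mul_eq_one_right hv'2, ← hcm]
            simp }
    have hmemW : ∀ a, a ∈ W ↔ a = 1 ∨ a = D.v ∨ a = v' ∨ a = D.v * v' := fun a => Iff.rfl
    have hWV : W ≤ D.V := fun a ha => by
      rcases (hmemW a).1 ha with rfl | rfl | rfl | rfl
      · exact one_mem _
      · exact D.Z_le_V hv
      · exact hv'V
      · exact mul_mem (D.Z_le_V hv) hv'V
    have hWX : W ⊓ D.X = ⊥ := eq_bot_iff.2 fun a ⟨ha, hax⟩ => by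
      have haZ := D.X_le_Z hZQ hax
      rcases (hmemW a).1 ha with rfl | rfl | rfl | rfl
      · exact mem_bot.2 rfl
      · exact absurd hax hvX
      · exact absurd haZ hv'Z
      · exact absurd (by simpa using mul_mem (inv_mem hv) haZ) hv'Z
    have hcardW : Nat.card W = 4 := by
      have hW1 : Nat.card W = 2 * Nat.card ↥(W ⊓ D.Z) := card_eq_two_mul inf_le_left
        ⟨v', Or.inr (Or.inr (Or.inl rfl)), fun h => hv'Z h.2⟩
        (fun a ha c hc ha' hc' => ⟨mul_mem ha hc, D.mul_mem_Z hZQ hb (hWV ha) (hWV hc)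
          (fun h => ha' ⟨ha, h⟩) (fun h => hc' ⟨hc, h⟩)⟩)
      have hW2 : Nat.card ↥(W ⊓ D.Z) = 2 * Nat.card ↥(⊥ : Subgroup G) := card_eq_two_mul bot_le
        ⟨D.v, ⟨Or.inr (Or.inl rfl), hv⟩, fun h => hv1 (mem_bot.1 h)⟩
        (fun a ha c hc ha' hc' => by
          have hX : ∀ u ∈ W ⊓ D.Z, u ∈ D.X → u ∈ (⊥ : Subgroup G) := fun u hu hux =>
            hWX ▸ ⟨hu.1, hux⟩
          exact hX _ (mul_mem ha hc) (D.mul_mem_X hZQ hb ha.2 hc.2 (fun h => ha' (hX a ha h))
            (fun h => hc' (hX c hc h))))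
      rw [hW1, hW2, card_bot]
    have hWXQ : W ⊔ D.X = D.Q := by
      refine Solvable.eq_of_le_of_card_le (sup_le (hWV.trans hQV.ge) (inf_le_left.trans hQV.ge)) ?_
      rw [Solvable.card_sup_of_disjoint (fun w hw => mem_normalizer_iff.2 fun u =>
        ⟨fun hu => by rwa [D.X_conj hu (D.hPH (D.V_le_P hZQ (hWV hw)))],
          fun hu => by
            have := D.X_conj hu (inv_mem (D.hPH (D.V_le_P hZQ (hWV hw))))
            rw [show w⁻¹ * (w * u * w⁻¹) * w⁻¹⁻¹ = u by group] at this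
            rwa [← this] at hu⟩) hWX, hcardW, hQV, hVX]
    -- the actions of `P` and its conjugate
    have htv' : ∀ p ∈ D.P, p ∉ D.Q → p * v' * p⁻¹ = v' * D.v :=
      fun p hp hpQ => hall v' hv'V hv'Z p hp hpQ
    have hPW : D.P ≤ normalizer (W : Set G) := by
      intro p hp
      have hle : ∀ p ∈ D.P, W ≤ cj p W := fun p hp => by
        intro a ha
        rw [mem_cj]
        by_cases hpQ : p ∈ D.Q
        · rw [mul_assoc, D.V_comm_Q hZQ (hWV ha) hpQ, inv_mul_cancel_left]; exact ha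
        · have hv0 : p⁻¹ * D.v * p = D.v := by
            rw [mul_assoc, hv.2.2 p hp, inv_mul_cancel_left]
          have hv0' : p⁻¹ * v' * p = v' * D.v := by
            simpa using htv' p⁻¹ (inv_mem hp) (fun h => hpQ (by simpa using inv_mem h))
          rcases (hmemW a).1 ha with rfl | rfl | rfl | rfl
          · rw [mul_one, inv_mul_cancel]; exact one_mem _
          · rw [hv0]; exact (hmemW _).2 (by tauto)
          · rw [hv0']; exact (hmemW _).2 (by rw [hcm]; tauto)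
          · rw [show p⁻¹ * (D.v * v') * p = (p⁻¹ * D.v * p) * (p⁻¹ * v' * p) by group, hv0, hv0',
              ← mul_assoc, hcm, mul_assoc, hvv, mul_one]
            exact (hmemW _).2 (by tauto)
      refine mem_normalizer_of_cj (le_antisymm (fun x hx => ?_) (hle p hp))
      have := hle p⁻¹ (inv_mem hp) (mem_cj.1 hx)
      simpa [mem_cj, mul_assoc] using this
    have hcase : ∀ x ∈ cj k D.P, ∀ u : G, u ∈ W → x * u * x⁻¹ ∈ W := by
      intro x hx u hu
      by_cases hxQ : k⁻¹ * x * k ∈ D.Q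
      · have hxQ' : x ∈ D.Q := (D.cj_Q hk.1).le (mem_cj.2 hxQ)
        rw [← D.V_comm_Q hZQ (hWV hu) hxQ', mul_inv_cancel_right]; exact hu
      set p := k⁻¹ * x * k
      have hp : p ∈ D.P := mem_cj.1 hx
      have e1 : x * v' * x⁻¹ = v' := by
        calc x * v' * x⁻¹ = k * (p * D.v * p⁻¹) * k⁻¹ := by simp only [hv', p]; group
          _ = v' := by rw [← hv.2.2 p hp, mul_inv_cancel_right]
      have e2 : x * D.v * x⁻¹ = D.v * v' := by
        have hv'' : k⁻¹ * D.v * k ∈ D.V := by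
          simpa using D.conj_mem_V hZQ (D.Z_le_V hv) (inv_mem hk.1)
        have hv''Z : k⁻¹ * D.v * k ∉ D.Z := fun h => hvnot (mem_cj.2 h)
        calc x * D.v * x⁻¹ = k * (p * (k⁻¹ * D.v * k) * p⁻¹) * k⁻¹ := by simp only [p]; group
          _ = D.v * v' := by rw [hall _ hv'' hv''Z p hp hxQ, hv']; group
      rcases (hmemW u).1 hu with rfl | rfl | rfl | rfl
      · rw [mul_one, mul_inv_cancel]; exact one_mem _
      · rw [e2]; exact (hmemW _).2 (by tauto)
      · rw [e1]; exact (hmemW _).2 (by tauto)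
      · rw [show x * (D.v * v') * x⁻¹ = (x * D.v * x⁻¹) * (x * v' * x⁻¹) by group, e1, e2, mul_assoc,
          hv'2, mul_one]
        exact (hmemW _).2 (by tauto)
    have hWn : D.H ≤ normalizer (W : Set G) := D.mem_H_of_gen hk' hPW fun x hx =>
      mem_normalizer_iff.2 fun u => ⟨hcase x hx u, fun hu => by
        simpa [mul_assoc] using hcase x⁻¹ (inv_mem hx) _ hu⟩
    haveI : (D.Q.subgroupOf D.H).Normal := (normal_subgroupOf_iff_le_normalizer
      (D.hQP.trans D.hPH)).2 D.hQn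
    have hWH : W ≤ D.H := (hWV.trans (D.V_le_P hZQ)).trans D.hPH
    haveI : (W.subgroupOf D.H).Normal := (normal_subgroupOf_iff_le_normalizer hWH).2 hWn
    have hXH : D.X ≤ D.H := ((D.X_le_Z hZQ).trans D.Z_le_P).trans D.hPH
    have hsup : W.subgroupOf D.H ⊔ D.X.subgroupOf D.H = D.Q.subgroupOf D.H := by
      apply map_injective D.H.subtype_injective
      rw [Subgroup.map_sup, map_subgroupOf_eq_of_le hWH, map_subgroupOf_eq_of_le hXH,
        map_subgroupOf_eq_of_le (D.hQP.trans D.hPH), hWXQ]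
    exact iso_sym_four (K := D.H) (P := S) (Q := D.Q.subgroupOf D.H) (W := W.subgroupOf D.H)
      (X := D.X.subgroupOf D.H) (t := ⟨t, D.hPH htP⟩) (h := ⟨k, hk.1⟩)
      (v := ⟨D.v, D.hPH hv.1⟩) (v' := ⟨v', hWH (Or.inr (Or.inr (Or.inl rfl)))⟩)
      (fun q hq => (hmemS q).2 (D.hQP hq))
      (fun q hq => Subtype.ext (D.V_sq hZQ (hQV ▸ hq)))
      (by rw [Nat.card_congr (subgroupOfEquivOfLe (D.hQP.trans D.hPH)).toEquiv, hScard, D.card_P])
      (by rw [Nat.card_congr (subgroupOfEquivOfLe hWH).toEquiv, hcardW])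
      (fun x hx g => Subtype.ext (mem_centralizer_iff.1 (mem_subgroupOf.1 hx).2 g g.2))
      (by
        rw [Nat.card_congr (subgroupOfEquivOfLe hXH).toEquiv]
        rw [hQV, hVX] at hQcard
        omega)
      (eq_bot_iff.2 fun a ha => mem_bot.2 (Subtype.ext (mem_bot.1 (hWX ▸ (ha : (a : G) ∈ W ⊓ D.X)))))
      hsup ((hmemS _).2 htP) htQ (Subtype.ext ht2)
      (fun h => hv1 (congrArg Subtype.val h)) (Or.inr (Or.inr (Or.inl rfl)))
      (fun h => hv'1 (congrArg Subtype.val h)) (Subtype.ext (htv' t htP htQ))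
      (Subtype.ext (by
        show k * t * k⁻¹ * v' * (k * t * k⁻¹)⁻¹ = v'
        calc k * t * k⁻¹ * v' * (k * t * k⁻¹)⁻¹ = k * (t * D.v * t⁻¹) * k⁻¹ := by simp only [hv']; group
          _ = v' := by rw [← hv.2.2 t htP, mul_inv_cancel_right]))
  · obtain ⟨hQ2, hQc, hPe⟩ := D.structure_small hZQ
    have hP4 : Nat.card D.P = 4 := by rw [D.card_P, hQ2]
    refine ⟨Or.inl hP4, Or.inl ?_⟩
    obtain ⟨q, hq, hq1⟩ := (bot_or_exists_ne_one D.Q).resolve_left D.hQne
    exact iso_klein (K := D.H) (P := S) (hScard.trans hP4)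
      (fun p hp => Subtype.ext (hPe p ((hmemS p).1 hp)))
      (q := ⟨q, D.hPH (D.hQP hq)⟩) (z := ⟨t0, D.hPH ht0P⟩) ((hmemS _).2 (D.hQP hq))
      ((hmemS _).2 ht0P) (fun h => hq1 (congrArg Subtype.val h))
      (fun h => ht0Q (by rw [show t0 = 1 from congrArg Subtype.val h]; exact one_mem _))
      (fun h => ht0Q (by rw [← show q = t0 from congrArg Subtype.val h]; exact hq))
      (fun g => Subtype.ext (hQc g g.2 q hq))

end CfsgLib.DihedralEdge.Data
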