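import Cfsg.Agent.DihedralEdge.Basic

/-!
The coset graph argument: the critical distance is one.
-/

set_option autoImplicit false
set_option linter.style.haveILetI false
set_option linter.unusedSectionVars false

namespace CfsgLib.DihedralEdge.Data

open Subgroup
open scoped commutatorElement

variable {G : Type*} [Group G] [Finite G] (D : Data G)

/-- The involutions of the centre of `P`. -/
def Z : Subgroup G where
  carrier := {a | a ∈ D.P ∧ a * a = 1 ∧ ∀ p ∈ D.P, a * p = p * a}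
  mul_mem' := fun {a b} ha hb => ⟨mul_mem ha.1 hb.1, by
      calc a * b * (a * b) = a * (b * a) * b := by group
        _ = (a * a) * (b * b) := by rw [← ha.2.2 b hb.1]; group
        _ = 1 := by rw [ha.2.1, hb.2.1, mul_one],
    fun p hp => by rw [mul_assoc, hb.2.2 p hp, ← mul_assoc, ha.2.2 p hp, mul_assoc]⟩
  one_mem' := ⟨one_mem _, one_mul 1, fun p _ => by rw [one_mul, mul_one]⟩
  inv_mem' := fun {a} ha => by
    have : a⁻¹ = a := inv_eq_of_mul_eq_one_right ha.2.1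
    rw [this]; exact ha

theorem mem_Z {a : G} : a ∈ D.Z ↔ a ∈ D.P ∧ a * a = 1 ∧ ∀ p ∈ D.P, a * p = p * a := Iff.rfl

theorem Z_le_P : D.Z ≤ D.P := fun _ h => h.1

theorem P_le_normalizer_Z : D.P ≤ normalizer (D.Z : Set G) := fun p hp =>
  mem_normalizer_iff.2 fun x => by
    constructor
    · intro hx
      rwa [← hx.2.2 p hp, mul_inv_cancel_right]
    · intro hx
      have h := hx.2.2 p hp
      have h2 : x = p * x * p⁻¹ := by
        have h3 : p * x = p * (p * x * p⁻¹) := by rw [← h]; group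
        exact mul_left_cancel h3
      exact h2 ▸ hx

theorem cj_y_Z : cj D.y D.Z = D.Z := by
  have hle : ∀ e, D.Step e → cj e D.Z ≤ D.Z := by
    intro e he x hx
    obtain ⟨h1, h2, h3⟩ := mem_cj.1 hx
    have hP := D.cj_P_step he
    refine ⟨hP ▸ mem_cj.2 h1, ?_, fun p hp => ?_⟩
    · calc x * x = e * ((e⁻¹ * x * e) * (e⁻¹ * x * e)) * e⁻¹ := by group
        _ = 1 := by rw [h2, mul_one, mul_inv_cancel]
    · have hp' : e⁻¹ * p * e ∈ D.P := mem_cj.1 (hP.symm ▸ hp)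
      calc x * p = e * ((e⁻¹ * x * e) * (e⁻¹ * p * e)) * e⁻¹ := by group
        _ = e * ((e⁻¹ * p * e) * (e⁻¹ * x * e)) * e⁻¹ := by rw [h3 _ hp']
        _ = p * x := by group
  refine le_antisymm (hle _ (Or.inl rfl)) fun x hx => ?_
  rw [mem_cj]
  exact hle _ (Or.inr rfl) (mem_cj.2 (by simpa [mul_assoc] using hx))

theorem cj_step_Z {e : G} (he : D.Step e) : cj e D.Z = D.Z :=
  (D.cj_step_eq D.Z_le_P D.P_le_normalizer_Z he).trans D.cj_y_Z

/-- `y²` fixes `Z` pointwise. -/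
theorem conj_y_eq_conj_inv {a : G} (ha : a ∈ D.Z) : D.y * a * D.y⁻¹ = D.y⁻¹ * a * D.y := by
  obtain ⟨p, hp, c, hc, e⟩ := D.hy2
  have h1 : D.y * D.y * a = a * (D.y * D.y) := by
    rw [e, mul_assoc, ← mem_centralizer_iff.1 hc a ha.1, ← mul_assoc, ← ha.2.2 p hp, mul_assoc]
  calc D.y * a * D.y⁻¹ = D.y⁻¹ * (D.y * D.y * a) * D.y⁻¹ := by group
    _ = D.y⁻¹ * (a * (D.y * D.y)) * D.y⁻¹ := by rw [h1]
    _ = D.y⁻¹ * a * D.y := by group

theorem conj_step {a : G} (ha : a ∈ D.Z) {e : G} (he : D.Step e) :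
    e * a * e⁻¹ = D.y * a * D.y⁻¹ := by
  rcases he with rfl | rfl
  · rfl
  · rw [inv_inv, D.conj_y_eq_conj_inv ha]

/-- The module. -/
def V : Subgroup G := ⨆ h : D.H, cj (h : G) D.Z

variable (hZQ : D.Z ≤ D.Q)

theorem Z_le_V : D.Z ≤ D.V :=
  (cj_one D.Z).ge.trans (le_iSup (fun h : D.H => cj (h : G) D.Z) ⟨1, D.H.one_mem⟩)

theorem cj_Z_le_V {h : G} (hh : h ∈ D.H) : cj h D.Z ≤ D.V :=
  le_iSup (fun h : D.H => cj (h : G) D.Z) ⟨h, hh⟩

theorem cj_V {h : G} (hh : h ∈ D.H) : cj h D.V = D.V := by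
  have hle : ∀ k ∈ D.H, D.V ≤ cj k D.V := fun k hk => iSup_le fun g => by
    rw [show (g : G) = k * (k⁻¹ * g) by group, cj_mul]
    exact cj_mono k (D.cj_Z_le_V (mul_mem (inv_mem hk) g.2))
  refine le_antisymm ?_ (hle h hh)
  intro x hx
  have := hle h⁻¹ (inv_mem hh) (mem_cj.1 hx)
  simpa [mem_cj, mul_assoc] using this

theorem H_le_normalizer_V : D.H ≤ normalizer (D.V : Set G) := fun _ hh =>
  mem_normalizer_of_cj (D.cj_V hh)

include hZQ in
theorem V_le_Q : D.V ≤ D.Q := iSup_le fun h => (cj_mono _ hZQ).trans (D.cj_Q h.2).le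

include hZQ in
theorem V_le_P : D.V ≤ D.P := (D.V_le_Q hZQ).trans D.hQP

include hZQ in
theorem V_comm_Q {a q : G} (ha : a ∈ D.V) (hq : q ∈ D.Q) : a * q = q * a := by
  have hle : D.V ≤ centralizer (D.Q : Set G) := iSup_le fun h x hx => by
    refine mem_centralizer_iff.2 fun u hu => ?_
    have hu' : (h : G)⁻¹ * u * h ∈ D.P := by
      refine D.hQP ?_
      have := mem_normalizer_iff.1 (D.hQn (inv_mem h.2)) u
      rw [inv_inv] at this
      exact this.1 hu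
    calc u * x = (h : G) * (((h : G)⁻¹ * u * h) * ((h : G)⁻¹ * x * h)) * (h : G)⁻¹ := by group
      _ = (h : G) * (((h : G)⁻¹ * x * h) * ((h : G)⁻¹ * u * h)) * (h : G)⁻¹ := by
        rw [(mem_cj.1 hx).2.2 _ hu']
      _ = x * u := by group
  exact (mem_centralizer_iff.1 (hle ha) q hq).symm

include hZQ in
theorem V_comm {a b : G} (ha : a ∈ D.V) (hb : b ∈ D.V) : a * b = b * a :=
  D.V_comm_Q hZQ ha (D.V_le_Q hZQ hb)

include hZQ in
theorem V_sq {a : G} (ha : a ∈ D.V) : a * a = 1 := by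
  suffices key : a ∈ D.V ∧ a * a = 1 from key.2
  refine Subgroup.iSup_induction (fun h : D.H => cj (h : G) D.Z)
    (C := fun x => x ∈ D.V ∧ x * x = 1) ha ?_ ⟨one_mem _, one_mul 1⟩ ?_
  · intro h x hx
    refine ⟨D.cj_Z_le_V h.2 hx, ?_⟩
    calc x * x = (h : G) * (((h : G)⁻¹ * x * h) * ((h : G)⁻¹ * x * h)) * (h : G)⁻¹ := by group
      _ = 1 := by rw [(mem_cj.1 hx).2.1, mul_one, mul_inv_cancel]
  · intro x z hx hz
    refine ⟨mul_mem hx.1 hz.1, ?_⟩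
    calc x * z * (x * z) = x * (z * x) * z := by group
      _ = (x * x) * (z * z) := by rw [← D.V_comm hZQ hx.1 hz.1]; group
      _ = 1 := by rw [hx.2, hz.2, mul_one]

include hZQ in
theorem mem_Z_of_commute {a t : G} (ha : a ∈ D.V) (ht : t ∈ D.P) (htQ : t ∉ D.Q)
    (h : a * t = t * a) : a ∈ D.Z := by
  refine ⟨D.V_le_P hZQ ha, D.V_sq hZQ ha, fun p hp => ?_⟩
  have hle : D.P ≤ centralizer {a} := D.P_le_of_Q
    (fun q hq => mem_centralizer_singleton_iff.2 (D.V_comm_Q hZQ ha hq).symm) ht htQ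
    (mem_centralizer_singleton_iff.2 h.symm)
  exact (mem_centralizer_singleton_iff.1 (hle hp)).symm

theorem Z_ne_bot : D.Z ≠ ⊥ := by
  obtain ⟨t, htP, htQ⟩ := D.exists_not_mem_Q
  haveI : Fact (Nat.Prime 2) := ⟨Nat.prime_two⟩
  haveI : Nontrivial D.P := ⟨⟨⟨t, htP⟩, 1, fun h => htQ (by
    rw [show t = 1 from congrArg Subtype.val h]; exact one_mem _)⟩⟩
  haveI : Nontrivial (center D.P) := nontrivial_iff_ne_bot _ |>.2 D.hP2.bot_lt_center.ne'
  obtain ⟨k, hk⟩ := IsPGroup.iff_card.1 (D.hP2.to_subgroup (center D.P))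
  have h2d : 2 ∣ Nat.card (center D.P) := by
    rw [hk]; refine dvd_pow_self 2 fun h => ?_
    rw [h, pow_zero] at hk
    have := Finite.one_lt_card (α := center D.P)
    omega
  obtain ⟨z, hz⟩ := exists_prime_orderOf_dvd_card' 2 h2d
  intro hbot
  have h2 : z * z = 1 := by rw [← pow_two, ← hz]; exact pow_orderOf_eq_one z
  have hzZ : ((z : D.P) : G) ∈ D.Z := ⟨(z : D.P).2,
    congrArg (fun u : center D.P => ((u : D.P) : G)) h2,
    fun p hp => (congrArg Subtype.val (mem_center_iff.1 z.2 ⟨p, hp⟩)).symm⟩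
  rw [hbot, mem_bot] at hzZ
  have : z = 1 := Subtype.ext (Subtype.ext hzZ)
  rw [this, orderOf_one] at hz
  omega

include hZQ in
theorem exists_not_mem_Z : ∃ a ∈ D.V, a ∉ D.Z := by
  by_contra h
  push Not at h
  have hVZ : D.V = D.Z := le_antisymm h D.Z_le_V
  exact D.Z_ne_bot (D.core _ D.Z_le_P (hVZ ▸ D.H_le_normalizer_V) D.cj_y_Z)

/-- `b` is the critical distance. -/
def Crit (b : ℕ) : Prop :=
  (∀ k < b, ∀ g ∈ D.Ball k, D.V ≤ cj g D.Q) ∧ ∃ g ∈ D.Ball b, ¬ D.V ≤ cj g D.Q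

include hZQ in
theorem exists_crit : ∃ b, D.Crit b := by
  classical
  by_cases hex : ∃ k, ∃ g ∈ D.Ball k, ¬ D.V ≤ cj g D.Q
  · refine ⟨Nat.find hex, fun k hk g hg => ?_, Nat.find_spec hex⟩
    by_contra hn
    exact Nat.find_min hex hk ⟨g, hg, hn⟩
  exfalso
  push Not at hex
  let R := {g : G | ∃ k, g ∈ D.Ball k}
  let L : Subgroup G := ⨅ g : R, cj (g : G) D.Q
  have hLQ : L ≤ D.Q :=
    (iInf_le (fun g : R => cj (g : G) D.Q) ⟨1, 0, D.H.one_mem⟩).trans (cj_one D.Q).le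
  have hinv : ∀ u ∈ R, cj u L = L := by
    intro u hu
    have hle : ∀ u ∈ R, L ≤ cj u L := fun u hu x hx => by
      rw [mem_cj, mem_iInf]
      rintro ⟨g, k, hg⟩
      obtain ⟨m, hm⟩ := hu
      have := mem_iInf.1 hx ⟨u * g, m + k, Ball.mul D hm hg⟩
      rw [cj_mul, mem_cj] at this
      exact this
    refine le_antisymm ?_ (hle u hu)
    intro x hx
    obtain ⟨m, hm⟩ := hu
    have := hle u⁻¹ ⟨m, Ball.inv D hm⟩ (mem_cj.1 hx)
    simpa [mem_cj, mul_assoc] using this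
  have hbot := D.core L (hLQ.trans D.hQP) (fun h hh => mem_normalizer_of_cj (hinv h ⟨0, hh⟩))
    (hinv D.y ⟨1, Ball.step D (Or.inl rfl)⟩)
  have hV : D.V ≤ L := le_iInf fun g => by
    obtain ⟨k, hk⟩ := g.2
    exact hex k g hk
  exact D.Z_ne_bot (eq_bot_iff.2 ((D.Z_le_V.trans hV).trans hbot.le))

variable {b : ℕ} (hb : D.Crit b)

include hb in
theorem near {k : ℕ} (hk : k < b) {g : G} (hg : g ∈ D.Ball k) : cj g D.V ≤ D.Q := by
  intro x hx
  have := hb.1 k hk g⁻¹ (Ball.inv D hg) (mem_cj.1 hx)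
  simpa [mem_cj, mul_assoc] using this

include hZQ hb in
theorem near_comm {k : ℕ} (hk : k < b) {g u v : G} (hg : g ∈ D.Ball k) (hu : u ∈ D.V)
    (hv : v ∈ cj g D.V) : u * v = v * u :=
  D.V_comm_Q hZQ hu (D.near hb hk hg hv)

include hb in
theorem crit_pos (hZQ : D.Z ≤ D.Q) : 1 ≤ b := by
  by_contra h
  obtain ⟨g, hg, hng⟩ := hb.2
  rw [show b = 0 by omega] at hg
  exact hng (by rw [D.cj_Q hg]; exact D.V_le_Q hZQ)

include hb in
theorem first_le {e w : G} (he : D.Step e) {k : ℕ} (hk : k < b) (hw : w ∈ D.Ball k) :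
    cj (e * w) D.V ≤ cj D.y D.Q := by
  rw [cj_mul, ← D.cj_step_Q he]
  exact cj_mono e (D.near hb hk hw)

include hZQ hb in
theorem loc {g : G} (hg : g ∈ D.Ball b) : D.V ≤ cj g D.H := by
  rcases b with _ | b
  · rw [D.cj_H hg]
    exact (D.V_le_P hZQ).trans D.hPH
  · rcases hg with hg | ⟨g1, hg1, e, he, h, hh, rfl⟩
    · exact (hb.1 b (Nat.lt_succ_self b) g hg).trans (cj_mono g (D.hQP.trans D.hPH))
    · refine (hb.1 b (Nat.lt_succ_self b) g1 hg1).trans ?_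
      rw [cj_mul, cj_mul, D.cj_H hh]
      exact cj_mono g1 ((D.hQP.trans (D.cj_P_step he).ge).trans (cj_mono e D.hPH))

theorem isPGroup_cj {L : Subgroup G} (h : IsPGroup 2 L) (g : G) : IsPGroup 2 (cj g L) := fun x => by
  obtain ⟨k, hk⟩ := h ⟨g⁻¹ * (x : G) * g, mem_cj.1 x.2⟩
  refine ⟨k, Subtype.ext ?_⟩
  have h2 : (g⁻¹ * (x : G) * g) ^ 2 ^ k = 1 := congrArg Subtype.val hk
  have h3 : g⁻¹ * (x : G) ^ 2 ^ k * g = 1 := by
    rwa [show g⁻¹ * (x : G) * g = MulAut.conj g⁻¹ (x : G) by simp, ← map_pow,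
      show MulAut.conj g⁻¹ ((x : G) ^ 2 ^ k) = g⁻¹ * (x : G) ^ 2 ^ k * g by simp] at h2
  calc (x : G) ^ 2 ^ k = g * (g⁻¹ * (x : G) ^ 2 ^ k * g) * g⁻¹ := by group
    _ = 1 := by rw [h3, mul_one, mul_inv_cancel]

include hZQ hb in
theorem exists_noncomm {g : G} (hg : g ∈ D.Ball b) (hng : ¬ D.V ≤ cj g D.Q) :
    ∃ u ∈ D.V, ∃ v ∈ cj g D.V, u * v ≠ v * u := by
  by_contra hno
  push Not at hno
  obtain ⟨a, ha, haQ⟩ := SetLike.not_le_iff_exists.1 hng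
  have h1 : g⁻¹ * a * g ∈ D.H := mem_cj.1 (D.loc hZQ hb hg ha)
  have hV2 : IsPGroup 2 D.V := D.hP2.to_le (D.V_le_P hZQ)
  have hcj : IsPGroup 2 (cj g⁻¹ D.V) := isPGroup_cj hV2 _
  obtain ⟨h, hh, hmem⟩ := D.sylow _ h1 (hcj.to_le (zpowers_le.2 (by
    rw [mem_cj]; simpa [mul_assoc] using ha)))
  set p := h⁻¹ * (g⁻¹ * a * g) * h
  have hp : p ∈ D.P := mem_cj.1 hmem
  have hpQ : p ∉ D.Q := fun hq => haQ (by
    rw [mem_cj, ← D.cj_Q hh, mem_cj]; exact hq)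
  obtain ⟨u, hu, huZ⟩ := D.exists_not_mem_Z hZQ
  refine huZ (D.mem_Z_of_commute hZQ hu hp hpQ ?_)
  have hu' : g * (h * u * h⁻¹) * g⁻¹ ∈ cj g D.V := by
    rw [conj_mem_cj, ← D.cj_V hh, conj_mem_cj]; exact hu
  have := hno a ha _ hu'
  calc u * p = h⁻¹ * g⁻¹ * (g * (h * u * h⁻¹) * g⁻¹ * a) * g * h := by simp only [p]; group
    _ = h⁻¹ * g⁻¹ * (a * (g * (h * u * h⁻¹) * g⁻¹)) * g * h := by rw [this]
    _ = p * u := by simp only [p]; group

include hZQ hb in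
theorem exists_out {g : G} (hg : g ∈ D.Ball b) (hng : ¬ D.V ≤ cj g D.Q) :
    ∃ t ∈ cj g D.V, t ∉ D.Q := by
  obtain ⟨u, hu, v, hv, hne⟩ := D.exists_noncomm hZQ hb hg hng
  exact ⟨v, hv, fun h => hne (D.V_comm_Q hZQ hu h)⟩

include hZQ hb in
theorem mul_mem_cj {g : G} (hg : g ∈ D.Ball b) {a c : G} (ha : a ∈ D.V) (hc : c ∈ D.V)
    (ha' : a ∉ cj g D.Q) (hc' : c ∉ cj g D.Q) : a * c ∈ cj g D.Q := by
  let T := cj g⁻¹ D.V
  have hT : T ≤ D.H := fun x hx => by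
    have := mem_cj.1 (D.loc hZQ hb hg (mem_cj.1 hx))
    simpa [mul_assoc] using this
  have hmem : ∀ x ∈ D.V, g⁻¹ * x * g ∈ T := fun x hx => by
    rw [mem_cj]; simpa [mul_assoc] using hx
  have := D.two T hT (isPGroup_cj (D.hP2.to_le (D.V_le_P hZQ)) _) _ (hmem a ha) _ (hmem c hc)
    (fun h => ha' (mem_cj.2 h)) (fun h => hc' (mem_cj.2 h))
  rw [mem_cj]
  simpa [mul_assoc] using this

/-- A critical vertex in normal position. -/
def CritFirst (b : ℕ) (g : G) : Prop :=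
  ¬ D.V ≤ cj g D.Q ∧ ∃ e, D.Step e ∧ ∃ w ∈ D.Ball (b - 1), g = e * w

include hb in
theorem CritFirst.mem (hZQ : D.Z ≤ D.Q) {g : G} (h : D.CritFirst b g) : g ∈ D.Ball b := by
  obtain ⟨-, e, he, w, hw, rfl⟩ := h
  have := Ball.mul D (Ball.step D he) hw
  rwa [Nat.add_sub_cancel' (D.crit_pos hb hZQ)] at this

include hZQ hb in
theorem exists_critFirst : ∃ g, D.CritFirst b g := by
  obtain ⟨g, hg, hng⟩ := hb.2
  have hpos := D.crit_pos hb hZQ
  obtain ⟨h, hh, e, he, w, hw, rfl⟩ := D.exists_first (k := b - 1)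
    (by rwa [Nat.sub_add_cancel hpos]) (fun h => hng (hb.1 _ (by omega) _ h))
  refine ⟨e * w, fun hle => hng ?_, e, he, w, hw, rfl⟩
  rw [cj_mul]
  intro x hx
  rw [← D.cj_V hh, mem_cj] at hx
  exact mem_cj.2 (hle hx)

include hb in
theorem CritFirst.le_side (hZQ : D.Z ≤ D.Q) {g : G} (h : D.CritFirst b g) :
    cj g D.V ≤ cj D.y D.Q := by
  obtain ⟨-, e, he, w, hw, rfl⟩ := h
  exact D.first_le hb he (by have := D.crit_pos hb hZQ; omega) hw

include hb in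
theorem CritFirst.le_P (hZQ : D.Z ≤ D.Q) {g : G} (h : D.CritFirst b g) : cj g D.V ≤ D.P :=
  (CritFirst.le_side D hb hZQ h).trans D.cj_y_Q_le

include hb in
theorem CritFirst.exists_t (hZQ : D.Z ≤ D.Q) {g : G} (h : D.CritFirst b g) :
    ∃ t ∈ cj g D.V, t ∈ D.P ∧ t ∉ D.Q ∧ t * t = 1 := by
  obtain ⟨t, ht, htQ⟩ := D.exists_out hZQ hb (CritFirst.mem D hb hZQ h) h.1
  refine ⟨t, ht, CritFirst.le_P D hb hZQ h ht, htQ, ?_⟩
  calc t * t = g * ((g⁻¹ * t * g) * (g⁻¹ * t * g)) * g⁻¹ := by group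
    _ = 1 := by rw [D.V_sq hZQ (mem_cj.1 ht), mul_one, mul_inv_cancel]

include hZQ hb in
theorem mul_mem_Z {a c : G} (ha : a ∈ D.V) (hc : c ∈ D.V) (ha' : a ∉ D.Z) (hc' : c ∉ D.Z) :
    a * c ∈ D.Z := by
  obtain ⟨g, hg⟩ := D.exists_critFirst hZQ hb
  obtain ⟨t, htV, htP, htQ, -⟩ := CritFirst.exists_t D hb hZQ hg
  have key : ∀ u ∈ D.V, u ∈ cj g D.Q → u ∈ D.Z := fun u hu huQ => by
    refine D.mem_Z_of_commute hZQ hu htP htQ ?_
    have := D.V_comm_Q hZQ (mem_cj.1 htV) (mem_cj.1 huQ)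
    calc u * t = g * ((g⁻¹ * u * g) * (g⁻¹ * t * g)) * g⁻¹ := by group
      _ = g * ((g⁻¹ * t * g) * (g⁻¹ * u * g)) * g⁻¹ := by rw [this]
      _ = t * u := by group
  exact key _ (mul_mem ha hc) (D.mul_mem_cj hZQ hb (CritFirst.mem D hb hZQ hg) ha hc
    (fun h => ha' (key a ha h)) (fun h => hc' (key c hc h)))

theorem Gen.cj_Z_ne {h : G} (hg : D.Gen h) : cj h D.Z ≠ D.Z := fun heq =>
  D.Z_ne_bot (D.core _ D.Z_le_P
    (D.mem_H_of_gen hg D.P_le_normalizer_Z (fun x hx => by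
      refine mem_normalizer_of_cj ?_
      rw [show x = h * (h⁻¹ * x * h) * h⁻¹ by group, cj_mul, cj_mul]
      have hh : cj h⁻¹ D.Z = D.Z := by
        conv_lhs => rw [← heq]
        rw [← cj_mul, inv_mul_cancel, cj_one]
      rw [hh, cj_eq_of_mem (D.P_le_normalizer_Z (mem_cj.1 hx)), heq])) D.cj_y_Z)

/-- The central part of the module. -/
def X : Subgroup G := D.V ⊓ centralizer (D.H : Set G)

theorem X_conj {x h : G} (hx : x ∈ D.X) (hh : h ∈ D.H) : h * x * h⁻¹ = x := by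
  rw [mem_centralizer_iff.1 hx.2 h hh, mul_inv_cancel_right]

include hZQ in
theorem X_le_Z : D.X ≤ D.Z := fun x hx => by
  obtain ⟨t, htP, htQ⟩ := D.exists_not_mem_Q
  exact D.mem_Z_of_commute hZQ hx.1 htP htQ (mem_centralizer_iff.1 hx.2 t (D.hPH htP)).symm

theorem inf_eq_X (hZQ : D.Z ≤ D.Q) {h : G} (hg : D.Gen h) : D.Z ⊓ cj h D.Z = D.X := by
  refine le_antisymm (fun x hx => ⟨D.Z_le_V hx.1, mem_centralizer_iff.2 fun k hk => ?_⟩)
    fun x hx => ⟨D.X_le_Z hZQ hx, mem_cj.2 (by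
      have := D.X_conj hx (inv_mem hg.1)
      rw [inv_inv] at this
      rw [this]; exact D.X_le_Z hZQ hx)⟩
  have hle : D.H ≤ centralizer {x} := D.mem_H_of_gen hg
    (fun p hp => mem_centralizer_singleton_iff.2 (hx.1.2.2 p hp).symm)
    (fun p hp => mem_centralizer_singleton_iff.2 (by
      have := (mem_cj.1 hx.2).2.2 _ (mem_cj.1 hp)
      calc p * x = h * ((h⁻¹ * p * h) * (h⁻¹ * x * h)) * h⁻¹ := by group
        _ = h * ((h⁻¹ * x * h) * (h⁻¹ * p * h)) * h⁻¹ := by rw [this]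
        _ = x * p := by group))
  exact mem_centralizer_singleton_iff.1 (hle hk)

include hZQ hb in
theorem mul_mem_X {a c : G} (ha : a ∈ D.Z) (hc : c ∈ D.Z) (ha' : a ∉ D.X) (hc' : c ∉ D.X) :
    a * c ∈ D.X := by
  obtain ⟨h, hg⟩ := D.exists_gen
  have hg' : D.Gen h := ⟨hg.1, hg.2⟩
  rw [← D.inf_eq_X hZQ hg'] at ha' hc' ⊢
  refine ⟨mul_mem ha hc, mem_cj.2 ?_⟩
  have hmem : ∀ x ∈ D.Z, h⁻¹ * x * h ∈ D.V := fun x hx => by
    rw [← D.cj_V (inv_mem hg.1), mem_cj]; simpa [mul_assoc] using D.Z_le_V hx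
  have := D.mul_mem_Z hZQ hb (hmem a ha) (hmem c hc) (fun h' => ha' ⟨ha, mem_cj.2 h'⟩)
    (fun h' => hc' ⟨hc, mem_cj.2 h'⟩)
  simpa [mul_assoc] using this

include hZQ in
theorem conj_mem_V {a t : G} (ha : a ∈ D.V) (ht : t ∈ D.H) : t * a * t⁻¹ ∈ D.V :=
  (mem_normalizer_iff.1 (D.H_le_normalizer_V ht) a).1 ha

include hZQ in
theorem conj_not_mem_Z {a t : G} (ha' : a ∉ D.Z) (ht : t ∈ D.P) : t * a * t⁻¹ ∉ D.Z :=
  fun h => ha' ((mem_normalizer_iff.1 (D.P_le_normalizer_Z ht) a).2 h)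

include hZQ hb in
/-- `P` induces transvections with a common centre. -/
theorem exists_v : ∃ v ∈ D.Z, v ≠ 1 ∧ v ∉ D.X ∧
    ∀ a ∈ D.V, a ∉ D.Z → ∀ t ∈ D.P, t ∉ D.Q → t * a * t⁻¹ = a * v := by
  obtain ⟨a0, ha0, ha0'⟩ := D.exists_not_mem_Z hZQ
  obtain ⟨t0, ht0, ht0'⟩ := D.exists_not_mem_Q
  set v := a0 * (t0 * a0 * t0⁻¹) with hv
  have hcV := D.conj_mem_V hZQ ha0 (D.hPH ht0)
  have hvZ : v ∈ D.Z :=
    D.mul_mem_Z hZQ hb ha0 hcV ha0' (D.conj_not_mem_Z hZQ ha0' ht0)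
  have hv1 : v ≠ 1 := fun h1 => ha0' (D.mem_Z_of_commute hZQ ha0 ht0 ht0' (by
    have h2 : t0 * a0 * t0⁻¹ = a0 := by
      rw [← inv_eq_of_mul_eq_one_right h1, inv_eq_of_mul_eq_one_right (D.V_sq hZQ ha0)]
    exact (mul_inv_eq_iff_eq_mul.1 h2).symm))
  have hall : ∀ a ∈ D.V, a ∉ D.Z → ∀ t ∈ D.P, t ∉ D.Q → t * a * t⁻¹ = a * v := by
    intro a ha ha' t ht ht'
    have h0 : t0 * a * t0⁻¹ = a * v := by
      have hz := D.mul_mem_Z hZQ hb ha0 ha ha0' ha'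
      have hcz : t0 * (a0 * a) * t0⁻¹ = a0 * a := by
        rw [← hz.2.2 t0 ht0, mul_inv_cancel_right]
      have e1 : t0 * a0 * t0⁻¹ = a0 * v := by
        rw [hv, ← mul_assoc, D.V_sq hZQ ha0, one_mul]
      calc t0 * a * t0⁻¹ = (t0 * a0 * t0⁻¹)⁻¹ * (t0 * (a0 * a) * t0⁻¹) := by group
        _ = (a0 * v)⁻¹ * (a0 * a) := by rw [hcz, e1]
        _ = v⁻¹ * a := by group
        _ = v * a := by rw [inv_eq_of_mul_eq_one_right hvZ.2.1]
        _ = a * v := D.V_comm hZQ (D.Z_le_V hvZ) ha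
    have hq : t⁻¹ * t0 ∈ D.Q :=
      D.mul_mem_Q (inv_mem ht) ht0 (fun h => ht' (by simpa using inv_mem h)) ht0'
    have hfix : (t⁻¹ * t0) * a * (t⁻¹ * t0)⁻¹ = a := by
      rw [← D.V_comm_Q hZQ ha hq, mul_inv_cancel_right]
    calc t * a * t⁻¹ = t * ((t⁻¹ * t0) * a * (t⁻¹ * t0)⁻¹) * t⁻¹ := by rw [hfix]
      _ = t0 * a * t0⁻¹ := by group
      _ = a * v := h0
  refine ⟨v, hvZ, hv1, fun hvX => ?_, hall⟩
  -- otherwise all actions commute
  obtain ⟨h, hg⟩ := D.exists_gen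
  let N : Subgroup G :=
    { carrier := {g | g ∈ D.H ∧ ∀ a ∈ D.V, g * a * g⁻¹ = a ∨ g * a * g⁻¹ = a * v}
      one_mem' := ⟨one_mem _, fun a _ => Or.inl (by group)⟩
      mul_mem' := fun {g k} hg hk => ⟨mul_mem hg.1 hk.1, fun a ha => by
        have e : g * k * a * (g * k)⁻¹ = g * (k * a * k⁻¹) * g⁻¹ := by group
        rw [e]
        rcases hk.2 a ha with h1 | h1 <;> rw [h1]
        · exact hg.2 a ha
        · rw [show g * (a * v) * g⁻¹ = (g * a * g⁻¹) * (g * v * g⁻¹) by group, D.X_conj hvX hg.1]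
          rcases hg.2 a ha with h2 | h2 <;> rw [h2]
          · exact Or.inr rfl
          · exact Or.inl (by rw [mul_assoc, hvZ.2.1, mul_one])⟩
      inv_mem' := fun {g} hg => ⟨inv_mem hg.1, fun a ha => by
        rw [inv_inv]
        rcases hg.2 a ha with h1 | h1
        · left; conv_lhs => rw [← h1]
          group
        · right
          conv_lhs => rw [show a = (g * a * g⁻¹) * v by rw [h1, mul_assoc, hvZ.2.1, mul_one]]
          have h3 : g⁻¹ * v * g = v := by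
            have := D.X_conj hvX (inv_mem hg.1)
            rwa [inv_inv] at this
          rw [show g⁻¹ * (g * a * g⁻¹ * v) * g = a * (g⁻¹ * v * g) by group, h3]⟩ }
  have hPN : D.P ≤ N := by
    intro p hp
    refine ⟨D.hPH hp, fun a ha => ?_⟩
    by_cases hpQ : p ∈ D.Q
    · left; rw [← D.V_comm_Q hZQ ha hpQ, mul_inv_cancel_right]
    by_cases haZ : a ∈ D.Z
    · left; rw [← haZ.2.2 p hp, mul_inv_cancel_right]
    · exact Or.inr (hall a ha haZ p hp hpQ)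
  have hle : cj h D.P ≤ N := by
    intro x hx
    refine ⟨D.cj_H_P hg.1 hx, fun a ha => ?_⟩
    have ha' : h⁻¹ * a * h ∈ D.V := by
      have := D.conj_mem_V hZQ ha (inv_mem hg.1)
      rwa [inv_inv] at this
    have hvv : h * v * h⁻¹ = v := D.X_conj hvX hg.1
    rcases (hPN (mem_cj.1 hx)).2 _ ha' with h1 | h1
    · left
      calc x * a * x⁻¹ = h * ((h⁻¹ * x * h) * (h⁻¹ * a * h) * (h⁻¹ * x * h)⁻¹) * h⁻¹ := by group
        _ = a := by rw [h1]; group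
    · right
      calc x * a * x⁻¹ = h * ((h⁻¹ * x * h) * (h⁻¹ * a * h) * (h⁻¹ * x * h)⁻¹) * h⁻¹ := by group
        _ = a * (h * v * h⁻¹) := by rw [h1]; group
        _ = a * v := by rw [hvv]
  have hHN : D.H ≤ N := D.mem_H_of_gen ⟨hg.1, hg.2⟩ hPN hle
  -- elements of P and of its conjugate act in the same way
  have hZh : cj h D.Z = D.Z := by
    have hkey : ∀ a ∈ D.V, ∀ k ∈ D.H, k * a * k⁻¹ ∈ D.Z → a ∈ D.Z := fun a ha k hk hz => by
      rcases (hHN hk).2 a ha with h1 | h1 <;> rw [h1] at hz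
      · exact hz
      · simpa using mul_mem hz (inv_mem hvZ)
    apply le_antisymm
    · intro x hx
      refine hkey x (D.cj_Z_le_V hg.1 hx) h⁻¹ (inv_mem hg.1) ?_
      rw [inv_inv]; exact mem_cj.1 hx
    · intro x hx
      refine mem_cj.2 (hkey _ ?_ h hg.1 (by simpa [mul_assoc] using hx))
      have := D.conj_mem_V hZQ (D.Z_le_V hx) (inv_mem hg.1)
      rwa [inv_inv] at this
  exact Gen.cj_Z_ne D (h := h) ⟨hg.1, hg.2⟩ hZh

/-- The centre of the transvections. -/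
noncomputable def v : G := Classical.epsilon fun v => v ∈ D.Z ∧ v ≠ 1 ∧ v ∉ D.X ∧
    ∀ a ∈ D.V, a ∉ D.Z → ∀ t ∈ D.P, t ∉ D.Q → t * a * t⁻¹ = a * v

include hZQ hb in
theorem v_spec : D.v ∈ D.Z ∧ D.v ≠ 1 ∧ D.v ∉ D.X ∧
    ∀ a ∈ D.V, a ∉ D.Z → ∀ t ∈ D.P, t ∉ D.Q → t * a * t⁻¹ = a * D.v := by
  obtain ⟨v, hv⟩ := D.exists_v hZQ hb
  exact Classical.epsilon_spec (p := fun v => v ∈ D.Z ∧ v ≠ 1 ∧ v ∉ D.X ∧
    ∀ a ∈ D.V, a ∉ D.Z → ∀ t ∈ D.P, t ∉ D.Q → t * a * t⁻¹ = a * v) ⟨v, hv⟩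

include hZQ hb in
theorem comm_eq {a t : G} (ha : a ∈ D.V) (ht : t ∈ D.P) :
    ⁅a, t⁆ = 1 ∨ ⁅a, t⁆ = D.v := by
  by_cases htQ : t ∈ D.Q
  · exact Or.inl (commutatorElement_eq_one_iff_mul_comm.2 (D.V_comm_Q hZQ ha htQ))
  by_cases haZ : a ∈ D.Z
  · exact Or.inl (commutatorElement_eq_one_iff_mul_comm.2 (haZ.2.2 t ht))
  right
  obtain ⟨hv, -, -, hall⟩ := D.v_spec hZQ hb
  have := hall a ha haZ t ht htQ
  rw [commutatorElement_def, show a * t * a⁻¹ * t⁻¹ = a * (t * a * t⁻¹)⁻¹ by group, this,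
    mul_inv_rev, inv_eq_of_mul_eq_one_right hv.2.1, inv_eq_of_mul_eq_one_right (D.V_sq hZQ ha),
    D.V_comm hZQ (D.Z_le_V hv) ha, ← mul_assoc, D.V_sq hZQ ha, one_mul]

include hb in
theorem CritFirst.v_mem (hZQ : D.Z ≤ D.Q) {g : G} (h : D.CritFirst b g) :
    ∃ u ∈ D.V, ∃ w ∈ cj g D.V, ⁅u, w⁆ = D.v ∧ D.v ∈ cj g D.V := by
  obtain ⟨u, hu, w, hw, hne⟩ := D.exists_noncomm hZQ hb (CritFirst.mem D hb hZQ h) h.1
  have hc := (D.comm_eq hZQ hb hu (CritFirst.le_P D hb hZQ h hw)).resolve_left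
    (fun e => hne (commutatorElement_eq_one_iff_mul_comm.1 e))
  refine ⟨u, hu, w, hw, hc, ?_⟩
  rw [← hc, commutatorElement_def]
  refine mul_mem (mem_cj.2 ?_) (inv_mem hw)
  have := D.conj_mem_V hZQ (mem_cj.1 hw) (mem_cj.1 (D.loc hZQ hb (CritFirst.mem D hb hZQ h) hu))
  simpa [mul_assoc] using this

include hZQ hb in
/-- Shifting a critical pair gives a critical pair. -/
theorem shift {g1 e k h : G} (hg : D.CritFirst b (g1 * e * k)) (hk : k ∈ D.H)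
    (hg1 : g1 ∈ D.Ball (b - 1)) (he : D.Step e) (hh : D.Gen h) :
    D.CritFirst b (D.y⁻¹ * (h⁻¹ * g1)) := by
  refine ⟨fun hle => ?_, D.y⁻¹, Or.inr rfl, _, Ball.mul_left D (inv_mem hh.1) hg1, rfl⟩
  set g := g1 * e * k with hgdef
  have hpos := D.crit_pos hb hZQ
  obtain ⟨t, htV, htP, htQ, ht2⟩ := CritFirst.exists_t D hb hZQ hg
  obtain ⟨a, ha, haQ⟩ := SetLike.not_le_iff_exists.1 hg.1
  set W := cj (h * D.y) D.V with hW
  have hWle : W ≤ cj g1 D.Q := by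
    intro x hx
    have h2 := hle (mem_cj.1 hx)
    rw [mem_cj] at h2 ⊢
    simpa [mul_assoc] using h2
  have hedge : cj g1 D.Q ≤ cj (g1 * e) D.P := by
    rw [cj_mul, D.cj_P_step he]
    exact cj_mono g1 D.hQP
  have hQg : cj g D.Q = cj (g1 * e) D.Q := by rw [hgdef, cj_mul, D.cj_Q hk]
  have hVle : D.V ≤ cj (g1 * e) D.P := (hb.1 _ (by omega) g1 hg1).trans hedge
  -- the commutators with `t`
  have hsplit : ∀ x ∈ W, x ∈ cj g D.Q ∨ x * a ∈ cj g D.Q := fun x hx => by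
    by_cases hxQ : x ∈ cj g D.Q
    · exact Or.inl hxQ
    right
    rw [hQg] at hxQ haQ ⊢
    rw [mem_cj] at hxQ haQ ⊢
    have := D.mul_mem_Q (mem_cj.1 (hWle.trans hedge hx)) (mem_cj.1 (hVle ha)) hxQ haQ
    simpa [mul_assoc] using this
  have hcomm : ∀ x ∈ cj g D.Q, t * x * t⁻¹ = x := fun x hx => by
    have := D.V_comm_Q hZQ (mem_cj.1 htV) (mem_cj.1 hx)
    have h2 : t * x = x * t := by
      calc t * x = g * ((g⁻¹ * t * g) * (g⁻¹ * x * g)) * g⁻¹ := by group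
        _ = g * ((g⁻¹ * x * g) * (g⁻¹ * t * g)) * g⁻¹ := by rw [this]
        _ = x * t := by group
    rw [h2, mul_inv_cancel_right]
  set U := W ⊔ D.V with hU
  have htU : ∀ x ∈ U, t * x * t⁻¹ ∈ U := by
    suffices U ≤ U.comap (MulAut.conj t).toMonoidHom from fun x hx => by
      simpa using this hx
    refine sup_le (fun x hx => ?_) fun x hx => ?_
    · show t * x * t⁻¹ ∈ U
      rcases hsplit x hx with h1 | h1
      · rw [hcomm x h1]; exact le_sup_left (b := D.V) hx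
      · rw [show t * x * t⁻¹ = (t * (x * a) * t⁻¹) * (t * a * t⁻¹)⁻¹ by group, hcomm _ h1]
        exact mul_mem (mul_mem (le_sup_left (b := D.V) hx) (le_sup_right (a := W) ha))
          (inv_mem (le_sup_right (a := W) (D.conj_mem_V hZQ ha (D.hPH htP))))
    · exact le_sup_right (a := W) (D.conj_mem_V hZQ hx (D.hPH htP))
  have htN : t ∈ normalizer (U : Set G) := mem_normalizer_iff.2 fun x => ⟨htU x, fun hx => by
    have := htU _ hx
    rw [show t⁻¹ = t from inv_eq_of_mul_eq_one_right ht2] at hx this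
    rwa [show t * (t * x * t) * t = (t * t) * x * (t * t) by group, ht2, one_mul, mul_one] at this⟩
  have hWn : cj h D.P ≤ normalizer (W : Set G) := fun x hx => mem_normalizer_of_cj (by
    rw [hW, show x = h * (h⁻¹ * x * h) * h⁻¹ by group, ← cj_mul,
      show h * (h⁻¹ * x * h) * h⁻¹ * (h * D.y) = h * D.y * (D.y⁻¹ * (h⁻¹ * x * h) * D.y) by group,
      cj_mul (h * D.y), D.cj_V]
    exact D.hPH (mem_cj.1 (D.hyP.symm ▸ (mem_cj.1 hx) : h⁻¹ * x * h ∈ cj D.y D.P)))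
  have hUn : cj h D.P ≤ normalizer (U : Set G) :=
    (le_inf hWn ((D.cj_H_P hh.1).trans D.H_le_normalizer_V)).trans
      (normalizer_inf_normalizer_le_normalizer_sup W D.V)
  have hPU : D.P ≤ normalizer (U : Set G) := D.P_le_of_Q ((D.Q_le_cj_P hh.1).trans hUn) htP htQ htN
  have hHU : D.H ≤ normalizer (U : Set G) := D.mem_H_of_gen hh hPU hUn
  have hU2 : cj D.y D.V ⊔ D.V = U := by
    conv_rhs => rw [← cj_eq_of_mem (hHU (inv_mem hh.1)), hU, cj_sup, hW, ← cj_mul,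
      inv_mul_cancel_left, D.cj_V (inv_mem hh.1)]
  have hyU : cj D.y U = U := by
    rw [← hU2, cj_sup, ← cj_mul, D.cj_sq (D.V_le_P hZQ) (D.hPH.trans D.H_le_normalizer_V), sup_comm]
  have hUP : U ≤ D.P := hU2 ▸ sup_le ((cj_mono _ (D.V_le_P hZQ)).trans D.hyP.le) (D.V_le_P hZQ)
  have hbot := D.core U hUP hHU hyU
  exact D.Z_ne_bot (eq_bot_iff.2 ((D.Z_le_V.trans le_sup_right).trans (hbot ▸ le_rfl : U ≤ ⊥)))

end CfsgLib.DihedralEdge.Data
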