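import Cfsg.Agent.DihedralEdge.Graph

/-!
The critical distance is one, and the resulting structure.
-/

set_option autoImplicit false
set_option linter.style.haveILetI false
set_option linter.unusedSectionVars false

namespace CfsgLib.DihedralEdge.Data

open Subgroup
open scoped commutatorElement

variable {G : Type*} [Group G] [Finite G] (D : Data G) (hZQ : D.Z ≤ D.Q) {b : ℕ} (hb : D.Crit b)

theorem conj_yy {a : G} (ha : a ∈ D.Z) : D.y * (D.y * a * D.y⁻¹) * D.y⁻¹ = a := by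
  rw [D.conj_y_eq_conj_inv ha]; group

include hZQ in
theorem comm_of_mem_cjQ {g x t : G} (hx : x ∈ cj g D.Q) (ht : t ∈ cj g D.V) : x * t = t * x := by
  have := D.V_comm_Q hZQ (mem_cj.1 ht) (mem_cj.1 hx)
  calc x * t = g * ((g⁻¹ * x * g) * (g⁻¹ * t * g)) * g⁻¹ := by group
    _ = g * ((g⁻¹ * t * g) * (g⁻¹ * x * g)) * g⁻¹ := by rw [this]
    _ = t * x := by group

include hZQ hb in
theorem commute_of_near {g g' x t : G} {k : ℕ} (hk : k < b) (hw : g⁻¹ * g' ∈ D.Ball k)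
    (hx : x ∈ cj g D.V) (ht : t ∈ cj g' D.V) : x * t = t * x := by
  have h1 : g⁻¹ * t * g ∈ cj (g⁻¹ * g') D.V := by
    rw [mem_cj] at ht ⊢; simpa [mul_assoc] using ht
  have := D.near_comm hZQ hb hk hw (mem_cj.1 hx) h1
  calc x * t = g * ((g⁻¹ * x * g) * (g⁻¹ * t * g)) * g⁻¹ := by group
    _ = g * ((g⁻¹ * t * g) * (g⁻¹ * x * g)) * g⁻¹ := by rw [this]
    _ = t * x := by group

include hZQ hb in
/-- The commutator of a shifted pair. -/
theorem shifted_mem {g1 e k h : G} (hg : D.CritFirst b (g1 * e * k)) (hk : k ∈ D.H)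
    (hg1 : g1 ∈ D.Ball (b - 1)) (he : D.Step e) (hh : D.Gen h) :
    h * (D.y * D.v * D.y⁻¹) * h⁻¹ ∈ cj g1 D.V := by
  obtain ⟨-, -, -, -, -, hm⟩ := CritFirst.v_mem D hb hZQ (D.shift hZQ hb hg hk hg1 he hh)
  rw [mem_cj] at hm ⊢
  simpa [mul_assoc] using hm

include hZQ hb in
theorem conj_v_mem_X (hb2 : 2 ≤ b) : D.y * D.v * D.y⁻¹ ∈ D.X := by
  obtain ⟨g, hg⟩ := D.exists_critFirst hZQ hb
  obtain ⟨h, hh⟩ := D.exists_gen
  have hh' : D.Gen h := ⟨hh.1, hh.2⟩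
  obtain ⟨hv, -, -, -⟩ := D.v_spec hZQ hb
  obtain ⟨t, htV, htP, htQ, -⟩ := CritFirst.exists_t D hb hZQ hg
  rcases (show g ∈ D.Ball (b - 1 + 1) by
    rw [Nat.sub_add_cancel (by omega : 1 ≤ b)]; exact CritFirst.mem D hb hZQ hg) with
    hg' | ⟨g1, hg1, e, he, k, hk, rfl⟩
  · exact absurd (hb.1 _ (by omega) g hg') hg.1
  have hm := D.shifted_mem hZQ hb hg hk hg1 he hh'
  set s := D.y * D.v * D.y⁻¹
  have hs : s ∈ D.Z := D.cj_y_Z.le (conj_mem_cj.2 hv)
  have hzh : h * s * h⁻¹ ∈ cj h D.Z := conj_mem_cj.2 hs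
  have hw : g1⁻¹ * (g1 * e * k) ∈ D.Ball 1 := by
    rw [show g1⁻¹ * (g1 * e * k) = e * k by group]
    exact Ball.mul_right D (Ball.step D he) hk
  have hc := D.commute_of_near hZQ hb (by omega : 1 < b) hw hm htV
  have hzX : h * s * h⁻¹ ∈ D.X := by
    rw [← D.inf_eq_X hZQ hh']
    exact ⟨D.mem_Z_of_commute hZQ (D.cj_Z_le_V hh.1 hzh) htP htQ hc, hzh⟩
  have h2 := D.X_conj hzX (inv_mem hh.1)
  rw [show h⁻¹ * (h * s * h⁻¹) * h⁻¹⁻¹ = s by group] at h2
  rw [h2]; exact hzX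

include hZQ hb in
theorem not_three_le : ¬ 3 ≤ b := by
  intro hb3
  obtain ⟨g, hg⟩ := D.exists_critFirst hZQ hb
  obtain ⟨h, hh⟩ := D.exists_gen
  have hh' : D.Gen h := ⟨hh.1, hh.2⟩
  obtain ⟨hv, -, hvX, -⟩ := D.v_spec hZQ hb
  obtain ⟨t, htV, htP, htQ, -⟩ := CritFirst.exists_t D hb hZQ hg
  have hsX := D.conj_v_mem_X hZQ hb (by omega)
  rcases (show g ∈ D.Ball (b - 1 + 1) by
    rw [Nat.sub_add_cancel (by omega : 1 ≤ b)]; exact CritFirst.mem D hb hZQ hg) with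
    hg' | ⟨g1, hg1, e, he, k, hk, rfl⟩
  · exact hg.1 (hb.1 _ (by omega) g hg')
  rcases (show g1 ∈ D.Ball (b - 2 + 1) by
    rwa [show b - 2 + 1 = b - 1 by omega]) with hg1' | ⟨g2, hg2, e2, he2, k2, hk2, rfl⟩
  · have : g1 * e * k ∈ D.Ball (b - 2 + 1) := Or.inr ⟨g1, hg1', e, he, k, hk, rfl⟩
    exact hg.1 (hb.1 _ (by omega) _ this)
  set w1 := D.y⁻¹ * (h⁻¹ * g2) with hw1
  have hw1B : w1 ∈ D.Ball (b - 1) := by
    have := Ball.mul D (Ball.step D (Or.inr rfl : D.Step D.y⁻¹)) (Ball.mul_left D (inv_mem hh.1) hg2)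
    rwa [show 1 + (b - 2) = b - 1 by omega] at this
  have hg' : D.CritFirst b (w1 * e2 * k2) := by
    have := D.shift hZQ hb hg hk hg1 he hh'
    rwa [show w1 * e2 * k2 = D.y⁻¹ * (h⁻¹ * (g2 * e2 * k2)) by rw [hw1]; group]
  have hm := D.shifted_mem hZQ hb hg' hk2 hw1B he2 hh'
  rw [D.X_conj hsX hh.1] at hm
  have hm2 : h * D.v * h⁻¹ ∈ cj g2 D.V := by
    rw [mem_cj] at hm ⊢
    rw [← D.conj_yy hv]
    rw [hw1] at hm
    simpa [mul_assoc] using hm
  have hw : g2⁻¹ * (g2 * e2 * k2 * e * k) ∈ D.Ball 2 := by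
    rw [show g2⁻¹ * (g2 * e2 * k2 * e * k) = (e2 * k2) * (e * k) by group]
    exact Ball.mul D (Ball.mul_right D (Ball.step D he2) hk2) (Ball.mul_right D (Ball.step D he) hk)
  have hc := D.commute_of_near hZQ hb (by omega : 2 < b) hw hm2 htV
  have hzh : h * D.v * h⁻¹ ∈ cj h D.Z := conj_mem_cj.2 hv
  have hzX : h * D.v * h⁻¹ ∈ D.X := by
    rw [← D.inf_eq_X hZQ hh']
    exact ⟨D.mem_Z_of_commute hZQ (D.cj_Z_le_V hh.1 hzh) htP htQ hc, hzh⟩
  have h2 := D.X_conj hzX (inv_mem hh.1)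
  rw [show h⁻¹ * (h * D.v * h⁻¹) * h⁻¹⁻¹ = D.v by group] at h2
  exact hvX (by rw [h2]; exact hzX)

include hb in
theorem CritFirst.not_mem_Z (hZQ : D.Z ≤ D.Q) {g a c : G} (hg : D.CritFirst b g)
    (ha : a ∈ D.V) (haQ : a ∉ cj g D.Q) (hc : c ∈ cj g D.V) (hcQ : c ∉ D.Q) : a ∉ D.Z := by
  intro haZ
  obtain ⟨u, hu, huZ⟩ := D.exists_not_mem_Z hZQ
  have hcP := CritFirst.le_P D hb hZQ hg hc
  by_cases huQ : u ∈ cj g D.Q
  · exact huZ (D.mem_Z_of_commute hZQ hu hcP hcQ (D.comm_of_mem_cjQ hZQ huQ hc))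
  · have h1 := D.mul_mem_cj hZQ hb (CritFirst.mem D hb hZQ hg) ha hu haQ huQ
    have h2 := D.mem_Z_of_commute hZQ (mul_mem ha hu) hcP hcQ (D.comm_of_mem_cjQ hZQ h1 hc)
    exact huZ (by simpa using mul_mem (inv_mem haZ) h2)

theorem comm_conj (z a c : G) : z * ⁅a, c⁆ * z⁻¹ = ⁅z * a * z⁻¹, z * c * z⁻¹⁆ := by
  simp only [commutatorElement_def]; group

include hZQ hb in
theorem not_two : b ≠ 2 := by
  intro hb2
  obtain ⟨g, hg⟩ := D.exists_critFirst hZQ hb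
  obtain ⟨h, hh⟩ := D.exists_gen
  have hh' : D.Gen h := ⟨hh.1, hh.2⟩
  obtain ⟨hv, hv1, hvX, -⟩ := D.v_spec hZQ hb
  have hsX := D.conj_v_mem_X hZQ hb (by omega)
  set s := D.y * D.v * D.y⁻¹ with hsdef
  have hs1 : s ≠ 1 := fun h1 => hv1 (by
    have : D.v = D.y⁻¹ * s * D.y := by rw [hsdef]; group
    rw [this, h1, mul_one, inv_mul_cancel])
  obtain ⟨t, htV, htP, htQ, ht2⟩ := CritFirst.exists_t D hb hZQ hg
  have hgmem := CritFirst.mem D hb hZQ hg
  obtain ⟨hng, e0, he0, w, hw, hge⟩ := id hg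
  rw [hb2] at hw
  rcases hw with hw | ⟨h1, hh1, e, he, k, hk, rfl⟩
  · exact hng (hb.1 1 (by omega) g (hge ▸ Ball.mul_right D (Ball.step D he0) hw))
  have hg1 : e0 * h1 ∈ D.Ball (b - 1) := by
    rw [hb2]; exact Ball.mul_right D (Ball.step D he0) hh1
  have hgform : g = e0 * h1 * e * k := by rw [hge]; group
  -- every generating shift fails to commute
  have hS : ∀ s' : G, D.Gen s' → ∃ u ∈ cj (s' * D.y) D.V, ∃ w ∈ cj D.y D.V, u * w ≠ w * u := by
    intro s' hs'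
    have hcf := D.shift hZQ hb (hgform ▸ hg) hk hg1 he hs'
    obtain ⟨u, hu, w, hw, hne⟩ := D.exists_noncomm hZQ hb (CritFirst.mem D hb hZQ hcf) hcf.1
    set z := s' * D.y with hz
    refine ⟨z * u * z⁻¹, conj_mem_cj.2 hu, z * w * z⁻¹, ?_, fun he' => hne ?_⟩
    · rw [← D.cj_step_eq (D.V_le_P hZQ) (D.hPH.trans D.H_le_normalizer_V) he0, ← D.cj_V hh1,
        ← cj_mul]
      rw [mem_cj] at hw ⊢
      simpa [hz, mul_assoc] using hw
    · calc u * w = z⁻¹ * ((z * u * z⁻¹) * (z * w * z⁻¹)) * z := by group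
        _ = z⁻¹ * ((z * w * z⁻¹) * (z * u * z⁻¹)) * z := by rw [he']
        _ = w * u := by group
  have hts : t * t ∈ D.Q := by rw [ht2]; exact one_mem _
  have hsG := D.gen_twist hh' htP htQ hts
  set s' := h⁻¹ * t * h
  obtain ⟨u, hu, w, hw, hne⟩ := hS s' hsG
  have hwQ : w ∉ cj (s' * D.y) D.Q := fun hq => hne (D.comm_of_mem_cjQ hZQ hq hu).symm
  -- the element of order four
  set a := h * w * h⁻¹ with hadef
  have ha : a ∈ cj (h * D.y) D.V := by rw [cj_mul, hadef, conj_mem_cj]; exact hw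
  have haQ : a ∉ cj (t * h * D.y) D.Q := fun hq => hwQ (by
    rw [mem_cj] at hq ⊢
    simpa [hadef, s', mul_assoc] using hq)
  have ht' : t⁻¹ = t := inv_eq_of_mul_eq_one_right ht2
  set a' := t * a * t with ha'def
  have ha' : a' ∈ cj (t * h * D.y) D.V := by
    rw [show a' = t * a * t⁻¹ by rw [ht'], mul_assoc t h, cj_mul, conj_mem_cj]; exact ha
  have ha'Q : a' ∉ cj (h * D.y) D.Q := fun hq => haQ (by
    rw [show t * h * D.y = t * (h * D.y) by group, cj_mul, mem_cj, ht']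
    exact hq)
  have hsq : ∀ {g x : G}, x ∈ cj g D.V → x * x = 1 := fun {g x} hx => by
    calc x * x = g * ((g⁻¹ * x * g) * (g⁻¹ * x * g)) * g⁻¹ := by group
      _ = 1 := by rw [D.V_sq hZQ (mem_cj.1 hx), mul_one, mul_inv_cancel]
  have hcomm1 : ⁅a, a'⁆ = s := by
    set z := h * D.y with hz
    set g0 := D.y⁻¹ * (s' * D.y) with hg0
    have ha0 : z⁻¹ * a * z ∈ D.V := mem_cj.1 ha
    have hzg : z * g0 = t * h * D.y := by simp only [hz, hg0, s']; group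
    have ha0Q : z⁻¹ * a * z ∉ cj g0 D.Q := fun hq => haQ (by
      rw [← hzg, cj_mul]; exact mem_cj.2 hq)
    have hcf : D.CritFirst b g0 := ⟨fun hle => ha0Q (hle ha0), D.y⁻¹, Or.inr rfl, _, by
      rw [hb2]; exact Ball.mul_left D hsG.1 (Ball.step D (Or.inl rfl)), rfl⟩
    have hc0 : z⁻¹ * a' * z ∈ cj g0 D.V := by
      rw [← hzg, cj_mul] at ha'; exact mem_cj.1 ha'
    have hc0Q : z⁻¹ * a' * z ∉ D.Q := fun hq => ha'Q (mem_cj.2 hq)
    have haZ := CritFirst.not_mem_Z D hb hZQ hcf ha0 ha0Q hc0 hc0Q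
    have hc0P := CritFirst.le_P D hb hZQ hcf hc0
    rcases D.comm_eq hZQ hb ha0 hc0P with h1' | h1'
    · exact absurd (D.mem_Z_of_commute hZQ ha0 hc0P hc0Q
        (commutatorElement_eq_one_iff_mul_comm.1 h1')) haZ
    · have h2 := comm_conj z (z⁻¹ * a * z) (z⁻¹ * a' * z)
      rw [h1', show z * (z⁻¹ * a * z) * z⁻¹ = a by group,
        show z * (z⁻¹ * a' * z) * z⁻¹ = a' by group] at h2
      rw [← h2, show z * D.v * z⁻¹ = h * s * h⁻¹ by simp only [hz, hsdef]; group,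
        D.X_conj hsX hh.1]
  -- seen from the other end of the edge
  set t' := a * t * a with ht'def
  have haP : a ∈ D.Q := D.near hb (by omega : 1 < b)
    (Ball.mul_left D hh.1 (Ball.step D (Or.inl rfl))) ha
  have hae : e0⁻¹ * a * e0 ∈ D.H :=
    D.hPH (mem_cj.1 ((D.cj_P_step he0).ge (D.hQP haP)))
  have ha2 : a⁻¹ = a := inv_eq_of_mul_eq_one_right (hsq ha)
  set k1 := h1⁻¹ * (e0⁻¹ * a * e0) * h1
  have hk1 : k1 ∈ D.H := mul_mem (mul_mem (inv_mem hh1) hae) hh1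
  set z := e0 * h1 * e with hz
  have htz : z⁻¹ * t * z ∈ D.V := by
    have := mem_cj.1 htV
    have h3 := D.conj_mem_V hZQ this hk
    rw [hgform] at h3
    simpa [hz, mul_assoc] using h3
  have htz' : z⁻¹ * t' * z ∈ cj (e⁻¹ * (k1 * e)) D.V := by
    rw [mem_cj]
    have e1 : z * (e⁻¹ * (k1 * e)) = a * z := by simp only [hz, k1]; group
    have : (e⁻¹ * (k1 * e))⁻¹ * (z⁻¹ * t' * z) * (e⁻¹ * (k1 * e)) = z⁻¹ * t * z := by
      calc (e⁻¹ * (k1 * e))⁻¹ * (z⁻¹ * t' * z) * (e⁻¹ * (k1 * e))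
          = (z * (e⁻¹ * (k1 * e)))⁻¹ * t' * (z * (e⁻¹ * (k1 * e))) := by group
        _ = (a * z)⁻¹ * (a * t * a) * (a * z) := by rw [e1]
        _ = z⁻¹ * t * (a * a) * z := by group
        _ = z⁻¹ * t * z := by rw [hsq ha, mul_one]
    rw [this]; exact htz
  have htz'P : z⁻¹ * t' * z ∈ D.P :=
    D.cj_y_Q_le (D.first_le hb he.inv (by omega : 1 < b)
      (Ball.mul_left D hk1 (Ball.step D he)) htz')
  have hcomm2 : ⁅t, t'⁆ = 1 ∨ ⁅t, t'⁆ = D.v := by
    have h2 := comm_conj z (z⁻¹ * t * z) (z⁻¹ * t' * z)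
    rw [show z * (z⁻¹ * t * z) * z⁻¹ = t by group,
      show z * (z⁻¹ * t' * z) * z⁻¹ = t' by group] at h2
    rcases D.comm_eq hZQ hb htz htz'P with h1' | h1'
    · left; rw [← h2, h1']; group
    · right
      rw [← h2, h1']
      calc z * D.v * z⁻¹ = e0 * (h1 * (e * D.v * e⁻¹) * h1⁻¹) * e0⁻¹ := by simp only [hz]; group
        _ = e0 * s * e0⁻¹ := by rw [D.conj_step hv he, D.X_conj hsX hh1]
        _ = D.v := by rw [D.conj_step (D.cj_y_Z.le (conj_mem_cj.2 hv)) he0, D.conj_yy hv]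
  have hA : ⁅a, a'⁆ = a * t * (a * t) * (a * t * (a * t)) := by
    rw [commutatorElement_def, inv_eq_of_mul_eq_one_right (hsq ha'), ha2, ha'def]
    group
  have hB : ⁅t', t⁆ = a * t * (a * t) * (a * t * (a * t)) := by
    rw [commutatorElement_def, ht', show t'⁻¹ = t' from inv_eq_of_mul_eq_one_right (by
      calc t' * t' = a * t * (a * a) * t * a := by rw [ht'def]; group
        _ = a * (t * t) * a := by rw [hsq ha]; group
        _ = 1 := by rw [ht2, mul_one, hsq ha]), ht'def]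
    group
  rw [hcomm1, ← hB, ← commutatorElement_inv] at hA
  rcases hcomm2 with h1' | h1'
  · exact hs1 (by rw [hA, h1', inv_one])
  · rw [h1', inv_eq_of_mul_eq_one_right hv.2.1] at hA
    exact hvX (hA ▸ hsX)

include hb in
theorem eq_one (hZQ : D.Z ≤ D.Q) : b = 1 := by
  have h1 := D.crit_pos hb hZQ
  have h2 := D.not_two hZQ hb
  have h3 := D.not_three_le hZQ hb
  omega

include hZQ hb in
/-- The kernel is the module, and it is small. -/
theorem structure_of_crit :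
    D.Q = D.V ∧ (Nat.card D.Q = 4 ∨ Nat.card D.Q = 8) ∧ Nat.card D.V = 4 * Nat.card D.X ∧
      ∃ t ∈ D.P, t ∉ D.Q ∧ t * t = 1 := by
  obtain rfl := D.eq_one hb hZQ
  obtain ⟨g, hg⟩ := D.exists_critFirst hZQ hb
  obtain ⟨t, htV, htP, htQ, ht2⟩ := CritFirst.exists_t D hb hZQ hg
  obtain ⟨hng, e, he, w, hw, rfl⟩ := id hg
  have hwH : w ∈ D.H := hw
  have hQ' : cj (e * w) D.Q = cj D.y D.Q := by rw [cj_mul, D.cj_Q hwH, D.cj_step_Q he]
  have hV' : cj (e * w) D.V = cj D.y D.V := by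
    rw [cj_mul, D.cj_V hwH, D.cj_step_eq (D.V_le_P hZQ) (D.hPH.trans D.H_le_normalizer_V) he]
  obtain ⟨a, ha, haQ⟩ := SetLike.not_le_iff_exists.1 hng
  rw [hQ'] at haQ
  rw [hV'] at htV
  set E := D.Q ⊓ cj D.y D.Q
  have hprod : ∀ q ∈ D.Q, q ∈ E ∨ q * a ∈ E := fun q hq => by
    by_cases hq' : q ∈ cj D.y D.Q
    · exact Or.inl ⟨hq, hq'⟩
    right
    refine ⟨mul_mem hq (D.V_le_Q hZQ ha), mem_cj.2 ?_⟩
    have hy : ∀ x ∈ D.P, D.y⁻¹ * x * D.y ∈ D.P := fun x hx => mem_cj.1 (D.hyP.symm ▸ hx)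
    have := D.mul_mem_Q (hy q (D.hQP hq)) (hy a (D.V_le_P hZQ ha))
      (fun h => hq' (mem_cj.2 h)) (fun h => haQ (mem_cj.2 h))
    simpa [mul_assoc] using this
  -- squares
  have hyE : ∀ d ∈ E, D.y⁻¹ * d * D.y ∈ E ∧ D.y * d * D.y⁻¹ ∈ E := fun d hd => by
    refine ⟨⟨mem_cj.1 hd.2, mem_cj.1 (D.cj_yy_Q.ge hd.1)⟩, ?_, conj_mem_cj.2 hd.1⟩
    exact D.cj_yy_Q.le (conj_mem_cj.2 hd.2)
  set L := Subgroup.closure ((fun d => d * d) '' (E : Set G))
  have hLQ : L ≤ D.Q := (closure_le _).2 (by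
    rintro _ ⟨d, hd, rfl⟩; exact mul_mem hd.1 hd.1)
  have hsqL : ∀ q ∈ D.Q, q * q ∈ L := fun q hq => by
    rcases hprod q hq with h1 | h1
    · exact subset_closure ⟨q, h1, rfl⟩
    · refine subset_closure ⟨q * a, h1, ?_⟩
      show q * a * (q * a) = q * q
      rw [show q * a * (q * a) = q * (a * q) * a by group, D.V_comm_Q hZQ ha hq,
        show q * (q * a) * a = q * q * (a * a) by group, D.V_sq hZQ ha, mul_one]
  have hLH : D.H ≤ normalizer (L : Set G) := fun k hk => by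
    have hle : ∀ k ∈ D.H, L ≤ cj k L := fun k hk => (closure_le _).2 (by
      rintro _ ⟨d, hd, rfl⟩
      rw [SetLike.mem_coe, mem_cj, show k⁻¹ * (d * d) * k = (k⁻¹ * d * k) * (k⁻¹ * d * k) by group]
      exact hsqL _ (mem_cj.1 ((D.cj_Q hk).ge hd.1)))
    refine mem_normalizer_of_cj (le_antisymm (fun x hx => ?_) (hle k hk))
    have := hle k⁻¹ (inv_mem hk) (mem_cj.1 hx)
    simpa [mem_cj, mul_assoc] using this
  have hLy : cj D.y L = L := by
    refine le_antisymm (fun x hx => ?_) ((closure_le _).2 ?_)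
    · have hle : L ≤ cj D.y⁻¹ L := (closure_le _).2 (by
        rintro _ ⟨d, hd, rfl⟩
        rw [SetLike.mem_coe, mem_cj, inv_inv,
          show D.y * (d * d) * D.y⁻¹ = (D.y * d * D.y⁻¹) * (D.y * d * D.y⁻¹) by group]
        exact subset_closure ⟨_, (hyE d hd).2, rfl⟩)
      have := hle (mem_cj.1 hx)
      simpa [mem_cj, mul_assoc] using this
    · rintro _ ⟨d, hd, rfl⟩
      rw [SetLike.mem_coe, mem_cj,
        show D.y⁻¹ * (d * d) * D.y = (D.y⁻¹ * d * D.y) * (D.y⁻¹ * d * D.y) by group]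
      exact subset_closure ⟨_, (hyE d hd).1, rfl⟩
  have hL := D.core L (hLQ.trans D.hQP) hLH hLy
  have hexp : ∀ q ∈ D.Q, q * q = 1 := fun q hq => by
    have := hsqL q hq; rwa [hL, mem_bot] at this
  have hQab : ∀ p ∈ D.Q, ∀ q ∈ D.Q, p * q = q * p := fun p hp q hq => by
    calc p * q = p * ((p * q) * (p * q)) * q := by rw [hexp _ (mul_mem hp hq), mul_one]
      _ = (p * p) * (q * p) * (q * q) := by group
      _ = _ := by rw [hexp p hp, hexp q hq, one_mul, mul_one]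
  have hEZ : E ≤ D.Z := fun d hd => by
    refine ⟨D.hQP hd.1, hexp d hd.1, fun p hp => ?_⟩
    have hle : D.P ≤ centralizer {d} := by
      refine D.P_le_of_Q (fun q hq => mem_centralizer_singleton_iff.2 (hQab q hq d hd.1)) htP htQ
        (mem_centralizer_singleton_iff.2 (D.comm_of_mem_cjQ hZQ hd.2 htV).symm)
    exact (mem_centralizer_singleton_iff.1 (hle hp)).symm
  have hQV : D.Q = D.V := le_antisymm (fun q hq => by
    rcases hprod q hq with h1 | h1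
    · exact D.Z_le_V (hEZ h1)
    · simpa using mul_mem (D.Z_le_V (hEZ h1)) (inv_mem ha)) (D.V_le_Q hZQ)
  obtain ⟨hv, hv1, hvX, -⟩ := D.v_spec hZQ hb
  have hVZ : Nat.card D.V = 2 * Nat.card D.Z :=
    card_eq_two_mul D.Z_le_V (D.exists_not_mem_Z hZQ) fun a ha c hc => D.mul_mem_Z hZQ hb ha hc
  have hZX : Nat.card D.Z = 2 * Nat.card D.X :=
    card_eq_two_mul (D.X_le_Z hZQ) ⟨D.v, hv, hvX⟩ fun a ha c hc => D.mul_mem_X hZQ hb ha hc
  have hX2 : Nat.card D.X ≤ 2 := by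
    have hXy : ∀ x ∈ D.X, x ∈ cj D.y D.X → x = 1 := fun x hx hx' => by
      have hbot := D.core (D.X ⊓ cj D.y D.X) (inf_le_left.trans ((D.X_le_Z hZQ).trans D.Z_le_P))
        (fun k hk => mem_normalizer_iff.2 fun u => by
          constructor
          · intro hu; rwa [D.X_conj hu.1 hk]
          · intro hu
            have := D.X_conj hu.1 (inv_mem hk)
            rw [show k⁻¹ * (k * u * k⁻¹) * k⁻¹⁻¹ = u by group] at this
            rwa [← this] at hu)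
        (by
          have h2 : cj D.y (cj D.y D.X) = D.X := by
            rw [← cj_mul, D.cj_sq ((D.X_le_Z hZQ).trans D.Z_le_P) fun p hp => mem_normalizer_iff.2
              fun u => ?_]
            constructor
            · intro hu; rwa [D.X_conj hu (D.hPH hp)]
            · intro hu
              have := D.X_conj hu (inv_mem (D.hPH hp))
              rw [show p⁻¹ * (p * u * p⁻¹) * p⁻¹⁻¹ = u by group] at this
              rwa [this]
          ext u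
          have h3 : u ∈ cj D.y (cj D.y D.X) ↔ u ∈ D.X := by rw [h2]
          rw [mem_cj, mem_cj] at h3
          rw [mem_cj, mem_inf, mem_inf, mem_cj, mem_cj]
          tauto)
      have : x ∈ D.X ⊓ cj D.y D.X := ⟨hx, hx'⟩
      rwa [hbot, mem_bot] at this
    by_contra hgt
    push Not at hgt
    haveI := Fintype.ofFinite D.X
    rw [Nat.card_eq_fintype_card, Fintype.two_lt_card_iff] at hgt
    obtain ⟨p, q, r, hpq, hpr, hqr⟩ := hgt
    have hkey : ∀ x ∈ D.X, ∀ u ∈ D.X, x ≠ 1 → u ≠ 1 → x = u := fun x hx u hu hx1 hu1 => by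
      have hyz : ∀ z ∈ D.Z, D.y⁻¹ * z * D.y ∈ D.Z := fun z hz => mem_cj.1 (D.cj_y_Z.ge hz)
      have h1 := D.mul_mem_X hZQ hb (hyz x (D.X_le_Z hZQ hx)) (hyz u (D.X_le_Z hZQ hu))
        (fun h => hx1 (hXy x hx (mem_cj.2 h))) (fun h => hu1 (hXy u hu (mem_cj.2 h)))
      have h2 : x * u ∈ cj D.y D.X := mem_cj.2 (by simpa [mul_assoc] using h1)
      have h3 := hXy _ (mul_mem hx hu) h2
      rw [← inv_eq_of_mul_eq_one_right (D.X_le_Z hZQ hx).2.1]
      exact inv_eq_of_mul_eq_one_right h3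
    by_cases hp : (p : G) = 1
    · exact hqr (Subtype.ext (hkey _ q.2 _ r.2 (fun h => hpq (Subtype.ext (hp.trans h.symm)))
        fun h => hpr (Subtype.ext (hp.trans h.symm))))
    by_cases hq : (q : G) = 1
    · exact hpr (Subtype.ext (hkey _ p.2 _ r.2 hp fun h => hqr (Subtype.ext (hq.trans h.symm))))
    exact hpq (Subtype.ext (hkey _ p.2 _ q.2 hp hq))
  refine ⟨hQV, ?_, by omega, t, htP, htQ, ht2⟩
  rw [hQV, hVZ, hZX]
  have := Nat.card_pos (α := D.X)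
  omega

end CfsgLib.DihedralEdge.Data
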